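import Mathlib

/-!
# Automorphisms of primitive prime order of a finite vector space

An automorphism whose order is a primitive prime divisor of `p ^ n - 1` acts irreducibly, its
commutant is a field and it has at most `n` conjugates among its powers.
-/

set_option autoImplicit false

namespace Cfsg.Agent.ThreeCharBlock

universe u

open Module

variable {V : Type u} [AddCommGroup V] {p r : ℕ} [Fact p.Prime] [Module (ZMod p) V] [Finite V]

/-- An automorphism of order `r` of a space is trivial when `r` divides no `p ^ k - 1` up to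
its dimension. -/
theorem eq_one_of_small (hr : r.Prime) (hrp : r ≠ p) (f : (Module.End (ZMod p) V)) (hf : f ^ r = 1)
    (hsmall : ∀ k, 0 < k → k ≤ finrank (ZMod p) V → ¬ r ∣ p ^ k - 1) : f = 1 := by
  classical
  haveI := Fact.mk hr
  have hp : p.Prime := Fact.out
  set e : Equiv.Perm V :=
    ⟨f, (f ^ (r - 1) : (Module.End (ZMod p) V)), fun v => by
      show (f ^ (r - 1) * f : (Module.End (ZMod p) V)) v = v
      rw [← pow_succ, Nat.sub_add_cancel hr.one_le, hf, Module.End.one_apply],
     fun v => by
      show (f * f ^ (r - 1) : (Module.End (ZMod p) V)) v = v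
      rw [← pow_succ', Nat.sub_add_cancel hr.one_le, hf, Module.End.one_apply]⟩
  have hiter : ∀ (k : ℕ) v, (e ^ k) v = (f ^ k) v := by
    intro k
    induction k with
    | zero => simp
    | succ k ih =>
      intro v
      rw [pow_succ', pow_succ', Equiv.Perm.mul_apply, ih, Module.End.mul_apply]
      rfl
  have he : e ^ r = 1 := Equiv.ext fun v => by rw [hiter, hf]; rfl
  have hP : IsPGroup r (Subgroup.zpowers e) := by
    obtain ⟨k, -, hk⟩ := (Nat.dvd_prime_pow hr).1
      ((pow_one r).symm ▸ orderOf_dvd_of_pow_eq_one he : orderOf e ∣ r ^ 1)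
    exact IsPGroup.of_card (n := k) (by rw [Nat.card_zpowers, hk])
  set F : Submodule (ZMod p) V := LinearMap.eqLocus f 1
  have hfix : Nat.card (MulAction.fixedPoints (Subgroup.zpowers e) V) = Nat.card F := by
    refine Nat.card_congr (Equiv.subtypeEquivRight fun v => ?_)
    rw [MulAction.mem_fixedPoints, LinearMap.mem_eqLocus]
    refine ⟨fun h => h ⟨e, Subgroup.mem_zpowers e⟩, fun h g => ?_⟩
    have : e ∈ MulAction.stabilizer (Equiv.Perm V) v := h
    exact Subgroup.zpowers_le.2 this g.2
  have hmod := hP.card_modEq_card_fixedPoints V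
  rw [hfix, natCard_eq_pow_finrank (K := ZMod p), natCard_eq_pow_finrank (K := ZMod p) (V := F),
    Nat.card_zmod] at hmod
  have hle := Submodule.finrank_le F
  by_contra hne
  have hlt : finrank (ZMod p) F < finrank (ZMod p) V := by
    refine lt_of_le_of_ne hle fun e' => hne (LinearMap.ext fun v => ?_)
    exact (Submodule.eq_top_of_finrank_eq e' ▸ Submodule.mem_top : v ∈ F)
  have hsub := (Nat.modEq_iff_dvd' (Nat.pow_le_pow_right hp.pos hle)).1 hmod.symm
  rw [← Nat.sub_add_cancel hle, pow_add, ← Nat.sub_one_mul, hr.dvd_mul] at hsub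
  rcases hsub with h | h
  · exact hsmall _ (by omega) (Nat.sub_le _ _) h
  · exact hrp ((Nat.prime_dvd_prime_iff_eq hr hp).1 (hr.dvd_of_dvd_pow h))

variable (hr : r.Prime) (hrp : r ≠ p) {f : (Module.End (ZMod p) V)} (hf : f ^ r = 1) (hne : f ≠ 1)
  (hprim : ∀ k, 0 < k → k < finrank (ZMod p) V → ¬ r ∣ p ^ k - 1)

include hr hrp hf hne hprim in
/-- An automorphism of primitive prime order is irreducible. -/
theorem irreducible (W : Submodule (ZMod p) V) (hW : ∀ v ∈ W, f v ∈ W) : W = ⊥ ∨ W = ⊤ := by
  by_contra! hcon
  obtain ⟨h0, h1⟩ := hcon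
  have hWlt : finrank (ZMod p) W < finrank (ZMod p) V := Submodule.finrank_lt h1
  have hquot : finrank (ZMod p) (V ⧸ W) < finrank (ZMod p) V := by
    have := Submodule.finrank_quotient_add_finrank W
    have : 0 < finrank (ZMod p) W := Nat.pos_of_ne_zero fun e => h0 (Submodule.finrank_eq_zero.1 e)
    omega
  have hres : (f.restrict hW : Module.End (ZMod p) W) = 1 := by
    refine eq_one_of_small hr hrp _ ?_ fun k hk hkW => hprim k hk (hkW.trans_lt hWlt)
    refine LinearMap.ext fun v => Subtype.ext ?_
    rw [Module.End.pow_restrict, LinearMap.restrict_coe_apply, hf]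
    rfl
  have : Finite (V ⧸ W) := Finite.of_surjective _ (Submodule.Quotient.mk_surjective W)
  have hq : (W.mapQ W f hW : Module.End (ZMod p) (V ⧸ W)) = 1 := by
    refine eq_one_of_small hr hrp _ ?_ fun k hk hkW => hprim k hk (hkW.trans_lt hquot)
    refine LinearMap.ext fun v => ?_
    induction v using Submodule.Quotient.induction_on with
    | _ v =>
      rw [← Submodule.mapQ_pow]
      simp [hf]
  refine hne (LinearMap.ext fun v => ?_)
  have hd : f v - v ∈ W := (Submodule.Quotient.eq W).1 (LinearMap.congr_fun hq (Submodule.Quotient.mk v))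
  have hfix : f (f v - v) = f v - v :=
    congrArg Subtype.val (LinearMap.congr_fun hres ⟨_, hd⟩)
  have hk : ∀ k : ℕ, (f ^ k) v = v + k • (f v - v) := by
    intro k
    induction k with
    | zero => simp
    | succ k ih =>
      rw [pow_succ', Module.End.mul_apply, ih, map_add, map_nsmul, hfix, succ_nsmul]
      abel
  have h2 := hk r
  rw [hf, Module.End.one_apply, left_eq_add, ← Nat.cast_smul_eq_nsmul (ZMod p), smul_eq_zero,
    ZMod.natCast_eq_zero_iff] at h2
  rcases h2 with h2 | h2
  · exact absurd ((Nat.prime_dvd_prime_iff_eq (Fact.out : p.Prime) hr).1 h2).symm hrp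
  · exact sub_eq_zero.1 h2

include hr hrp hf hne hprim in
/-- Only zero is fixed by an automorphism of primitive prime order. -/
theorem eq_zero_of_fixed (hn : 2 ≤ finrank (ZMod p) V) {v : V} (hv : f v = v) : v = 0 := by
  by_contra h0
  rcases irreducible hr hrp hf hne hprim (Submodule.span (ZMod p) {v}) (fun w hw => by
    obtain ⟨c, rfl⟩ := Submodule.mem_span_singleton.1 hw
    rw [map_smul, hv]
    exact hw) with h | h
  · exact h0 (Submodule.span_singleton_eq_bot.1 h)
  · have := congrArg (fun W : Submodule (ZMod p) V => finrank (ZMod p) W) h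
    simp only [finrank_span_singleton h0, finrank_top] at this
    omega

/-- The commutant of an irreducible automorphism is a field. -/
theorem isField_commutant [Nontrivial V] {f : Module.End (ZMod p) V}
    (hirr : ∀ W : Submodule (ZMod p) V, (∀ v ∈ W, f v ∈ W) → W = ⊥ ∨ W = ⊤) :
    IsField (Subalgebra.centralizer (ZMod p) {f}) := by
  classical
  have hinv : ∀ g : Subalgebra.centralizer (ZMod p) ({f} : Set (Module.End (ZMod p) V)), g ≠ 0 →
      LinearMap.ker (g : (Module.End (ZMod p) V)) = ⊥ := by
    intro g hg
    refine (hirr _ fun v hv => ?_).resolve_right fun h =>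
      hg (Subtype.ext (LinearMap.ker_eq_top.1 h))
    have hc : f * (g : (Module.End (ZMod p) V)) = (g : (Module.End (ZMod p) V)) * f := Subalgebra.mem_centralizer_iff _ |>.1 g.2 f rfl
    rw [LinearMap.mem_ker] at hv ⊢
    rw [← Module.End.mul_apply, ← hc, Module.End.mul_apply, hv, map_zero]
  have : NoZeroDivisors (Subalgebra.centralizer (ZMod p) ({f} : Set (Module.End (ZMod p) V))) := ⟨fun {a b} hab => by
    by_contra! h
    refine h.2 (Subtype.ext (LinearMap.ext fun v => ?_))
    have := LinearMap.congr_fun (congrArg Subtype.val hab) v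
    exact LinearMap.ker_eq_bot'.1 (hinv a h.1) _ this⟩
  have : Nontrivial (Subalgebra.centralizer (ZMod p) ({f} : Set (Module.End (ZMod p) V))) := ⟨⟨0, 1, fun h => by
    obtain ⟨v, hv⟩ := exists_ne (0 : V)
    exact hv (LinearMap.congr_fun (congrArg Subtype.val h) v).symm⟩⟩
  have : IsDomain (Subalgebra.centralizer (ZMod p) ({f} : Set (Module.End (ZMod p) V))) :=
    NoZeroDivisors.to_isDomain _
  have : Finite (Module.End (ZMod p) V) := Finite.of_injective _ DFunLike.coe_injective
  exact Finite.isDomain_to_isField _

/-- A finite group embedded in the commutant of an irreducible automorphism is cyclic. -/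
theorem isCyclic_of_commute [Nontrivial V] {f : Module.End (ZMod p) V}
    (hirr : ∀ W : Submodule (ZMod p) V, (∀ v ∈ W, f v ∈ W) → W = ⊥ ∨ W = ⊤) {A : Type*} [Group A] [Finite A] (φ : A →* (Module.End (ZMod p) V))
    (hφ : Function.Injective φ) (hc : ∀ a, f * φ a = φ a * f) : IsCyclic A := by
  letI := (isField_commutant hirr).toField
  refine isCyclic_of_subgroup_isDomain (R := Subalgebra.centralizer (ZMod p) ({f} : Set (Module.End (ZMod p) V)))
    { toFun := fun a => ⟨φ a, Subalgebra.mem_centralizer_iff _ |>.2 fun g hg => by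
        obtain rfl := Set.mem_singleton_iff.1 hg
        exact hc a⟩
      map_one' := Subtype.ext φ.map_one
      map_mul' := fun a b => Subtype.ext (φ.map_mul a b) } fun a b h => hφ (congrArg Subtype.val h)

include hr hrp hf hne hprim in
/-- At most `n` commuting elements are conjugate to an automorphism of primitive prime order. -/
theorem card_conj_le [Nontrivial V] {ι : Type*} [Fintype ι] (y : ι → (Module.End (ZMod p) V))
    (hy : Function.Injective y) (hc : ∀ i, f * y i = y i * f)
    (hconj : ∀ i, ∃ g : ((Module.End (ZMod p) V))ˣ, y i = g * f * (↑g⁻¹ : (Module.End (ZMod p) V))) :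
    Fintype.card ι ≤ finrank (ZMod p) V := by
  classical
  set S := Subalgebra.centralizer (ZMod p) ({f} : Set (Module.End (ZMod p) V))
  let z : ι → S := fun i => ⟨y i, Subalgebra.mem_centralizer_iff _ |>.2 fun g hg => by
    obtain rfl := Set.mem_singleton_iff.1 hg
    exact hc i⟩
  set m := LinearMap.charpoly f with hm
  have hroot : ∀ i, Polynomial.aeval (z i) m = 0 := by
    intro i
    obtain ⟨g, hg⟩ := hconj i
    refine Subtype.ext ?_
    show S.val (Polynomial.aeval (z i) m) = 0
    rw [← Polynomial.aeval_algHom_apply, show S.val (z i) = y i from rfl, hg]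
    have := LinearMap.aeval_self_charpoly f
    let conjHom : (Module.End (ZMod p) V) →ₐ[ZMod p] (Module.End (ZMod p) V) :=
      (MulSemiringAction.toAlgHom (ZMod p) (Module.End (ZMod p) V) (ConjAct.toConjAct g))
    have h2 := Polynomial.aeval_algHom_apply conjHom f m
    rw [this, map_zero] at h2
    exact h2
  letI := (isField_commutant (irreducible hr hrp hf hne hprim)).toField
  have hmon : m.Monic := LinearMap.charpoly_monic f
  have h1 : (Finset.univ.image z).card ≤ m.natDegree := by
    refine le_trans (Finset.card_le_card (t := (m.map (algebraMap (ZMod p) S)).roots.toFinset)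
      fun s hs => ?_) ((Multiset.toFinset_card_le _).trans ((Polynomial.card_roots' _).trans
        (le_of_eq (hmon.natDegree_map _))))
    obtain ⟨i, -, rfl⟩ := Finset.mem_image.1 hs
    rw [Multiset.mem_toFinset, Polynomial.mem_roots (hmon.map _).ne_zero, Polynomial.IsRoot,
      Polynomial.eval_map, ← Polynomial.aeval_def]
    exact hroot i
  rwa [Finset.card_image_of_injective _ (fun a b h => hy (congrArg Subtype.val h)),
    Finset.card_univ, LinearMap.charpoly_natDegree] at h1

end Cfsg.Agent.ThreeCharBlock
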