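import Cfsg.Agent.ThreeCharBlock.Main
import Cfsg.Agent.BlockThms.QuotientDefect
import Cfsg.Agent.Core.Frattini
import Cfsg.Agent.Core.Hall

/-!
# Reduction to an abelian normal defect group
-/

set_option autoImplicit false

namespace Cfsg.Agent.ThreeCharBlock

open Cfsg.Agent Cfsg.Agent.Blocks Cfsg.Agent.Char

universe u

/-- A nilpotent group whose abelianisation has at most three elements is commutative. -/
theorem comm_of_commutator_index {P : Type u} [Group P] [Finite P] [Group.IsNilpotent P]
    (h : (commutator P).index ≤ 3) : ∀ a b : P, a * b = b * a := by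
  have hcyc : IsCyclic (P ⧸ commutator P) := by
    have hc : Nat.card (P ⧸ commutator P) ≤ 3 := h
    have hpos : 0 < Nat.card (P ⧸ commutator P) := Nat.card_pos
    rcases (show Nat.card (P ⧸ commutator P) = 1 ∨ (Nat.card (P ⧸ commutator P)).Prime by
      interval_cases Nat.card (P ⧸ commutator P) <;> norm_num) with h1 | h1
    · have := (Nat.card_eq_one_iff_unique.1 h1).1
      infer_instance
    · have := Fact.mk h1
      exact isCyclic_of_prime_card rfl
  obtain ⟨q, hq⟩ := hcyc.exists_generator
  obtain ⟨x, rfl⟩ := QuotientGroup.mk_surjective q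
  have htop : Subgroup.zpowers x ⊔ frattini P = ⊤ := by
    refine eq_top_iff.2 fun g _ => ?_
    obtain ⟨k, hk⟩ := hq (g : P ⧸ commutator P)
    have hm : (x ^ k)⁻¹ * g ∈ commutator P := QuotientGroup.eq.1 (by
      rw [QuotientGroup.mk_zpow]; exact hk)
    have hm2 := Subgroup.mul_mem_sup
      (show x ^ k ∈ Subgroup.zpowers x from Subgroup.zpow_mem_zpowers x k)
      (Core.commutator_le_frattini hm)
    rwa [mul_inv_cancel_left] at hm2
  have hx := frattini_nongenerating htop
  intro a b
  obtain ⟨i, rfl⟩ := (hx ▸ Subgroup.mem_top a : a ∈ Subgroup.zpowers x)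
  obtain ⟨j, rfl⟩ := (hx ▸ Subgroup.mem_top b : b ∈ Subgroup.zpowers x)
  exact ((Commute.refl x).zpow_zpow i j).eq

variable {H : Type u} [Group H] [Fintype H] {p : ℕ} {M : Ideal Cfsg.AlgInt}

/-- A normal defect group of a block with at most three characters of height zero has at most
three elements and is abelian. -/
theorem card_le_three_of_height_zero (hM : Cfsg.IsPModular p M)
    {b : Set (Cfsg.IrrCharacter H)} (hb : Cfsg.IsPBlock M b) {D : Subgroup H} [D.Normal]
    (hD : Cfsg.IsDefectGroup p M b D)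
    (h0 : Nat.card {ψ : Cfsg.IrrCharacter H //
      ψ ∈ b ∧ Cfsg.blockHeight p b (ψ : H → ℂ) = 0} ≤ 3) :
    Nat.card D ≤ 3 := by
  classical
  have := Fact.mk hM.1
  have hDp : IsPGroup p D := DefectThms.isPGroup_of_isDefectGroup hD
  set K : Subgroup H := ⁅D, D⁆ with hK
  have : K.Normal := Subgroup.commutator_normal D D
  have hKD : K ≤ D := Subgroup.commutator_le.2 fun x hx y hy =>
    D.mul_mem (D.mul_mem (D.mul_mem hx hy) (D.inv_mem hx)) (D.inv_mem hy)
  have hKp : IsPGroup p K := IsPGroup.to_le hDp hKD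
  obtain ⟨Bb, hBb, hinfl, P, hP, hPb⟩ := BlockThms.QuotientDefect.exists_dominated K hM hKp hb
  obtain ⟨k, hk⟩ := DefectThms.exists_defectGroup_conj hM hb hD hP
  have hPD : P = D := by
    rw [← hk]
    refine Subgroup.eq_of_le_of_card_ge ?_ (DefectThms.card_map_conj D k).ge
    rintro _ ⟨x, hx, rfl⟩
    exact Subgroup.Normal.conj_mem inferInstance x hx k
  rw [hPD] at hPb
  set Db := D.map (QuotientGroup.mk' K) with hDb
  have : Db.Normal :=
    Subgroup.Normal.map inferInstance _ (QuotientGroup.mk'_surjective K)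
  have hab : ∀ x ∈ Db, ∀ y ∈ Db, x * y = y * x := by
    rintro _ ⟨x, hx, rfl⟩ _ ⟨y, hy, rfl⟩
    have h : x * y * x⁻¹ * y⁻¹ ∈ K := Subgroup.commutator_mem_commutator hx hy
    have h1 : ((x * y * x⁻¹ * y⁻¹ : H) : H ⧸ K) = 1 := (QuotientGroup.eq_one_iff _).2 h
    simp only [QuotientGroup.mk_mul, QuotientGroup.mk_inv] at h1
    exact mul_inv_eq_one.1 (by rw [← h1]; simp only [QuotientGroup.mk'_apply]; group)
  have := Fintype.ofFinite (H ⧸ K)
  have hidx : Db.index = D.index :=
    Subgroup.index_map_eq D (QuotientGroup.mk'_surjective K) (by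
      rwa [QuotientGroup.ker_mk'])
  have hcard : Nat.card Bb ≤ 3 := by
    refine le_trans (Nat.card_le_card_of_injective
      (fun η : Bb => (⟨BlockChar.inflIrr K η.1, hinfl η.1 η.2 _ rfl,
        NormalDefect.height_zero_of_dvd hM hb hD ?_⟩ :
        {ψ : Cfsg.IrrCharacter H // ψ ∈ b ∧ Cfsg.blockHeight p b (ψ : H → ℂ) = 0}))
      fun η η' h => Subtype.ext (BlockChar.inflIrr_injective K (congrArg Subtype.val h))) h0
    rw [← hidx]
    exact NormalDefect.charDegree_dvd_index Db hab η.1
  have hmain := card_le_three_of_normal hM hBb hPb hab hcard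
  have hfac : Nat.card D = Nat.card K * Nat.card Db := by
    rw [← Core.card_comap_mk K Db, hDb, Subgroup.comap_map_eq_self (by rwa [QuotientGroup.ker_mk'])]
  have hcomm : Nat.card (commutator D) = Nat.card K := by
    rw [hK, ← Subgroup.map_subtype_commutator,
      Subgroup.card_map_of_injective D.subtype_injective]
  have hnil : Group.IsNilpotent D := hDp.isNilpotent
  have hDab := comm_of_commutator_index (P := D) (by
    have h1 := Subgroup.card_mul_index (commutator D)
    rw [hcomm, hfac] at h1
    rw [Nat.eq_of_mul_eq_mul_left Nat.card_pos h1]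
    exact hmain)
  have hK1 : Nat.card K = 1 := by
    rw [hK, show ⁅D, D⁆ = ⊥ from ?_, Subgroup.card_bot]
    refine le_bot_iff.1 (Subgroup.commutator_le.2 fun x hx y hy => ?_)
    have : x * y = y * x := congrArg Subtype.val (hDab ⟨x, hx⟩ ⟨y, hy⟩)
    rw [Subgroup.mem_bot, commutatorElement_def, this]
    group
  rw [hfac, hK1, one_mul]
  exact hmain

end Cfsg.Agent.ThreeCharBlock
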