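import Mathlib

/-!
# Arithmetic for blocks with three characters

`p ^ n - 1` as a sum of two squares and as a prime times a square.
-/

set_option autoImplicit false

namespace Cfsg.Agent.ThreeCharBlock

/-- The prime factors congruent to three modulo four of a sum of two squares have even
exponent. -/
theorem even_factorization {n a b : ℕ} (h : n = a ^ 2 + b ^ 2) {ℓ : ℕ} (hℓ : ℓ.Prime)
    (h3 : ℓ % 4 = 3) : Even (n.factorization ℓ) := by
  by_cases hn : n = 0
  · simp [hn]
  by_cases hd : ℓ ∣ n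
  · have := Nat.eq_sq_add_sq_iff.1 ⟨a, b, h⟩ ℓ (Nat.mem_primeFactors.2 ⟨hℓ, hd, hn⟩) h3
    rwa [Nat.factorization_def n hℓ]
  · simp [Nat.factorization_eq_zero_of_not_dvd hd]

/-- A prime to the first power in a sum of two squares is not three modulo four. -/
theorem not_three_mod_four {n a b : ℕ} (h : n = a ^ 2 + b ^ 2) {r : ℕ} (hr : r.Prime)
    (h1 : r ∣ n) (h2 : ¬ r ^ 2 ∣ n) : r % 4 ≠ 3 := by
  intro h3
  have hn : n ≠ 0 := fun e => h2 (e ▸ dvd_zero _)
  have he := even_factorization h hr h3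
  have ha := hr.factorization_pos_of_dvd hn h1
  have hb : n.factorization r < 2 := by
    by_contra hb
    exact h2 ((hr.pow_dvd_iff_le_factorization hn).2 (not_lt.1 hb))
  rw [Nat.even_iff] at he
  omega

/-- If `Q * E` is a square and `E` a sum of two squares then so is `Q`. -/
theorem sum_sq_of_mul_square {Q E a b : ℕ} (hE : E ≠ 0) (h : E = a ^ 2 + b ^ 2)
    (hsq : IsSquare (Q * E)) : ∃ x y, Q = x ^ 2 + y ^ 2 := by
  rcases Nat.eq_zero_or_pos Q with rfl | hQ
  · exact ⟨0, 0, rfl⟩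
  refine Nat.eq_sq_add_sq_iff.2 fun ℓ hℓ h3 => ?_
  obtain ⟨hp, -, -⟩ := Nat.mem_primeFactors.1 hℓ
  obtain ⟨s, hs⟩ := hsq
  have he := even_factorization h hp h3
  have hs0 : s ≠ 0 := fun e => by simp [e, hQ.ne', hE] at hs
  have := congrArg (fun x : ℕ => x.factorization ℓ) hs
  simp only [Nat.factorization_mul hQ.ne' hE, Nat.factorization_mul hs0 hs0, Finsupp.add_apply]
    at this
  rw [← Nat.factorization_def Q hp]
  rw [Nat.even_iff] at he ⊢
  omega

/-- A number congruent to three modulo four is no sum of two squares. -/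
theorem not_sum_sq {n : ℕ} (h : n % 4 = 3) (x y : ℕ) : n ≠ x ^ 2 + y ^ 2 := by
  intro e
  rw [e, pow_two, pow_two, Nat.add_mod, Nat.mul_mod x, Nat.mul_mod y] at h
  have hx := Nat.mod_lt x (show 0 < 4 by norm_num)
  have hy := Nat.mod_lt y (show 0 < 4 by norm_num)
  interval_cases x % 4 <;> interval_cases y % 4 <;> simp_all

/-- `2 ^ n - 1` is no sum of two squares for `n` at least two. -/
theorem not_sum_sq_two_pow {n : ℕ} (hn : 2 ≤ n) (x y : ℕ) : 2 ^ n - 1 ≠ x ^ 2 + y ^ 2 := by
  refine not_sum_sq ?_ x y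
  obtain ⟨k, rfl⟩ := Nat.exists_eq_add_of_le hn
  have : 1 ≤ 2 ^ k := Nat.one_le_two_pow
  rw [pow_add]
  omega

/-- The Gaussian integers. -/
abbrev GI := GaussianInt

/-- The real part of an odd power of a Gaussian integer is divisible by its real part. -/
theorem re_dvd_pow (x : GI) (j : ℕ) : x.re ∣ (x ^ (2 * j + 1)).re := by
  induction j with
  | zero => simp
  | succ j ih =>
    rw [show 2 * (j + 1) + 1 = 2 * j + 1 + 2 by ring, pow_add, Zsqrtd.re_mul]
    refine dvd_add (ih.mul_right _) ?_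
    rw [pow_two, Zsqrtd.im_mul]
    exact Dvd.intro _ (by ring : x.re * (-1 * (x ^ (2 * j + 1)).im * (2 * x.im)) = _)

/-- The real part of an odd power at least three of `1 + b i`, `b` even, is not one. -/
theorem re_pow_ne {b : ℤ} (hb : Even b) (hb0 : b ≠ 0) {n : ℕ} (hn : Odd n) (h3 : 3 ≤ n) :
    ((⟨1, b⟩ : GI) ^ n).re ≠ 1 := by
  intro h
  set c : GI := ⟨0, b⟩ with hc
  have hpow : ∀ k : ℕ, c ^ (2 * k) = ((((-1) * b ^ 2) ^ k : ℤ) : GI) := fun k => by
    rw [pow_mul, Int.cast_pow]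
    congr 1
    ext <;> simp [hc, pow_two]
  set T : ℕ → ℕ := fun m => n.choose m * b.natAbs ^ m with hT
  have hT2 : T 2 ≠ 0 := Nat.mul_ne_zero (Nat.choose_pos (by omega)).ne' (by simp [hb0])
  set e := (T 2).factorization 2 with he
  have h2b : 2 ∣ b.natAbs := Int.natCast_dvd.1 hb.two_dvd
  have hdvd : ∀ m, 3 ≤ m → Even m → 2 ^ (e + 1) ∣ T m := by
    intro m hm hev
    obtain ⟨k, rfl⟩ := hev
    rcases Nat.lt_or_ge n (k + k) with hlt | hle
    · simp [hT, Nat.choose_eq_zero_of_lt hlt]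
    have hid : T (k + k) * (k + k).choose 2 =
        T 2 * ((n - 2).choose (k + k - 2) * b.natAbs ^ (k + k - 2)) := by
      have h1 := Nat.choose_mul (n := n) (k := k + k) (s := 2) (by omega)
      calc _ = n.choose (k + k) * (k + k).choose 2 * b.natAbs ^ (k + k) := by simp only [hT]; ring
        _ = _ := by
          rw [h1, show b.natAbs ^ (k + k) = b.natAbs ^ 2 * b.natAbs ^ (k + k - 2) by
            rw [← pow_add]; congr 1; omega]
          ring
    have hTm : T (k + k) ≠ 0 := Nat.mul_ne_zero (Nat.choose_pos hle).ne' (by simp [hb0])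
    have hch : (k + k).choose 2 = k * (k + k - 1) := by
      rw [Nat.choose_two_right, show (k + k) * (k + k - 1) = 2 * (k * (k + k - 1)) by ring]
      omega
    have hv := congrArg (fun x : ℕ => x.factorization 2) hid
    have hR : ((n - 2).choose (k + k - 2) * b.natAbs ^ (k + k - 2)) ≠ 0 :=
      Nat.mul_ne_zero (Nat.choose_pos (by omega)).ne' (by simp [hb0])
    rw [hch] at hv
    have hodd : (k + k - 1).factorization 2 = 0 :=
      Nat.factorization_eq_zero_of_not_dvd (by omega)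
    have hvb : 1 ≤ b.natAbs.factorization 2 :=
      Nat.prime_two.factorization_pos_of_dvd (by simp [hb0]) h2b
    have hk : k.factorization 2 < k := Nat.factorization_lt 2 (by omega)
    have hb' : b.natAbs ^ (k + k - 2) ≠ 0 := by simp [hb0]
    have hc' : (n - 2).choose (k + k - 2) ≠ 0 := (Nat.choose_pos (by omega)).ne'
    have hk0 : k ≠ 0 := by omega
    have hk1 : k + k - 1 ≠ 0 := by omega
    change (T (k + k) * (k * (k + k - 1))).factorization 2 =
      (T 2 * ((n - 2).choose (k + k - 2) * b.natAbs ^ (k + k - 2))).factorization 2 at hv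
    rw [Nat.factorization_mul hTm (Nat.mul_ne_zero hk0 hk1), Finsupp.add_apply,
      Nat.factorization_mul hk0 hk1, Finsupp.add_apply, Nat.factorization_mul hT2 hR,
      Finsupp.add_apply, Nat.factorization_mul hc' hb', Finsupp.add_apply,
      Nat.factorization_pow, Finsupp.smul_apply, smul_eq_mul, hodd, add_zero] at hv
    have hmul : k + k - 2 ≤ (k + k - 2) * b.natAbs.factorization 2 :=
      Nat.le_mul_of_pos_right _ hvb
    exact (Nat.prime_two.pow_dvd_iff_le_factorization hTm).2 (by omega)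
  have hsum : (((1 : GI) + c) ^ n).re =
      ∑ m ∈ Finset.range (n + 1), (n.choose m : ℤ) * (c ^ m).re := by
    rw [add_comm, add_pow]
    rw [show ∀ (s : Finset ℕ) (f : ℕ → GI), (∑ m ∈ s, f m).re = ∑ m ∈ s, (f m).re from fun s f => by
      induction s using Finset.cons_induction with
      | empty => simp
      | cons a s ha ih =>
        rw [Finset.sum_cons, Finset.sum_cons, Zsqrtd.re_add, ih]]
    refine Finset.sum_congr rfl fun m _ => ?_
    simp only [one_pow, mul_one, Zsqrtd.re_mul, Zsqrtd.re_natCast, Zsqrtd.im_natCast]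
    ring
  have heq : (⟨1, b⟩ : GI) = 1 + c := by ext <;> simp [hc]
  rw [heq, hsum, ← Finset.add_sum_erase _ _ (show 0 ∈ Finset.range (n + 1) by simp),
    ← Finset.add_sum_erase _ _ (show 2 ∈ (Finset.range (n + 1)).erase 0 by simp; omega)] at h
  have hrest : ((2 ^ (e + 1) : ℕ) : ℤ) ∣
      ∑ m ∈ ((Finset.range (n + 1)).erase 0).erase 2, (n.choose m : ℤ) * (c ^ m).re := by
    refine Finset.dvd_sum fun m hm => ?_
    simp only [Finset.mem_erase] at hm
    rcases Nat.even_or_odd' m with ⟨k, rfl | rfl⟩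
    · rw [hpow, Zsqrtd.re_intCast, mul_pow, mul_left_comm, ← pow_mul]
      refine Dvd.dvd.mul_left ?_ _
      rw [Int.natCast_dvd, Int.natAbs_mul, Int.natAbs_natCast, Int.natAbs_pow]
      exact hdvd _ (by omega) ⟨k, by ring⟩
    · rw [pow_add c, pow_one, hpow, Zsqrtd.re_mul, Zsqrtd.re_intCast, Zsqrtd.im_intCast]
      simp [hc]
  have h2 : ((c ^ 2).re : ℤ) = -b ^ 2 := by
    rw [show 2 = 2 * 1 from rfl, hpow, Zsqrtd.re_intCast]; ring
  simp only [Nat.choose_zero_right, Nat.cast_one, pow_zero, Zsqrtd.re_one, mul_one, h2] at h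
  set R := ∑ m ∈ ((Finset.range (n + 1)).erase 0).erase 2, (n.choose m : ℤ) * (c ^ m).re
  have hTd : 2 ^ (e + 1) ∣ T 2 := by
    have h4 : R = ((n.choose 2 : ℤ) * b ^ 2) := by linarith
    rw [h4, Int.natCast_dvd, Int.natAbs_mul, Int.natAbs_natCast, Int.natAbs_pow] at hrest
    exact hrest
  have := (Nat.prime_two.pow_dvd_iff_le_factorization hT2).1 hTd
  omega

/-- Lebesgue: no power with exponent at least two of an odd prime exceeds a square by one,
for even squares. -/
theorem lebesgue {p i y : ℕ} (hp : p.Prime) (h2 : p ≠ 2) (h : p ^ i = 1 + y ^ 2) : i ≤ 1 := by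
  by_contra! hi
  have hpodd : Odd p := hp.odd_of_ne_two h2
  have hy : Even y := by
    have := hpodd.pow (n := i)
    rw [h] at this
    simpa [parity_simps] using this
  have hy0 : y ≠ 0 := by
    rintro rfl
    simp [pow_eq_one_iff, hp.ne_one, show i ≠ 0 by omega] at h
  -- the exponent is odd
  rcases Nat.even_or_odd' i with ⟨j, rfl | rfl⟩
  · rw [pow_mul'] at h
    have h1 : y < p ^ j := by nlinarith [Nat.zero_le (p ^ j)]
    nlinarith [Nat.mul_le_mul h1 h1, Nat.pos_of_ne_zero hy0]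
  -- a power in the Gaussian integers
  set u : GI := ⟨1, y⟩ with hu
  set w : GI := ⟨1, -y⟩ with hw
  have huw : u * w = (p : GI) ^ (2 * j + 1) := by
    rw [← Nat.cast_pow, h]
    ext <;> simp [hu, hw, pow_two]
  have hcop : IsCoprime u w := by
    obtain ⟨t, rfl⟩ := hy
    have e : u + w = 2 := by ext <;> simp [hu, hw] <;> rfl
    obtain ⟨s, hs⟩ : ∃ s : GI, u * w = 2 * s + 1 := by
      refine ⟨((2 * t * t : ℕ) : GI), ?_⟩
      ext <;> simp [hu, hw] <;> ring
    exact ⟨w - s, -s, by linear_combination hs - s * e⟩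
  obtain ⟨z, hz⟩ := exists_associated_pow_of_mul_eq_pow' hcop huw
  obtain ⟨c, hc⟩ := hz
  have hunit : ∃ z' : GI, z' ^ (2 * j + 1) = u := by
    have h4 : (c : GI) ^ 4 = 1 := by
      have hn := Zsqrtd.norm_eq_one_iff.2 (c.isUnit)
      have hn' : ((c : GI).re) ^ 2 + ((c : GI).im) ^ 2 = 1 := by
        have h1 : ((c : GI).norm.natAbs : ℤ) = (c : GI).norm := GaussianInt.abs_natCast_norm _
        rw [hn, Zsqrtd.norm_def] at h1
        push_cast at h1
        linarith
      have hre : |(c : GI).re| ≤ 1 := abs_le.2 ⟨by nlinarith, by nlinarith⟩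
      have him : |(c : GI).im| ≤ 1 := abs_le.2 ⟨by nlinarith, by nlinarith⟩
      rcases hcab : (c : GI) with ⟨a, b⟩
      rw [hcab] at hre him hn'
      obtain ⟨ha1, ha2⟩ := abs_le.1 hre
      obtain ⟨hb1, hb2⟩ := abs_le.1 him
      change (-1 : ℤ) ≤ a at ha1
      change a ≤ (1 : ℤ) at ha2
      change (-1 : ℤ) ≤ b at hb1
      change b ≤ (1 : ℤ) at hb2
      change a ^ 2 + b ^ 2 = 1 at hn'
      interval_cases a <;> interval_cases b <;> first | rfl | norm_num at hn'
    rcases Nat.even_or_odd j with hj | hj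
    · refine ⟨z * c, ?_⟩
      obtain ⟨k, rfl⟩ := hj
      rw [mul_pow, ← hc, show 2 * (k + k) + 1 = 4 * k + 1 by ring, pow_add (c : GI),
        pow_mul, h4, one_pow, one_mul, pow_one]
    · refine ⟨z * (c : GI) ^ 3, ?_⟩
      obtain ⟨k, rfl⟩ := hj
      rw [mul_pow, ← hc, ← pow_mul, show 3 * (2 * (2 * k + 1) + 1) = 4 * (3 * k + 2) + 1 by ring,
        pow_add (c : GI), pow_mul (c : GI), h4, one_pow, one_mul, pow_one]
  obtain ⟨⟨a, b⟩, hab⟩ := hunit
  have hnorm : (a * a + b * b) ^ (2 * j + 1) = (p : ℤ) ^ (2 * j + 1) := by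
    have hm : ∀ m : ℕ, ((⟨a, b⟩ : GI) ^ m).norm = (⟨a, b⟩ : GI).norm ^ m := fun m =>
      map_pow Zsqrtd.normMonoidHom _ m
    have := congrArg Zsqrtd.norm hab
    rw [hm, Zsqrtd.norm_def, Zsqrtd.norm_def] at this
    calc (a * a + b * b) ^ (2 * j + 1) = 1 + (y : ℤ) ^ 2 := by
          simpa [hu, pow_two] using this
      _ = _ := by exact_mod_cast h.symm
  have hab2 : a * a + b * b = p :=
    (Odd.pow_injective (⟨j, rfl⟩ : Odd (2 * j + 1))) hnorm
  have ha : a = 1 ∨ a = -1 := by
    have := re_dvd_pow (⟨a, b⟩ : GI) j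
    rw [hab] at this
    exact Int.isUnit_iff.1 (isUnit_of_dvd_one this)
  have ha2 : a * a = 1 := by rcases ha with rfl | rfl <;> norm_num
  have hbev : Even b := by
    have h1 : Odd (a * a + b * b) := by rw [hab2]; exact_mod_cast hpodd
    rw [ha2] at h1
    simpa [parity_simps] using h1
  have hb0 : b ≠ 0 := by
    rintro rfl
    rw [ha2] at hab2
    exact hp.ne_one (by exact_mod_cast (by linarith : (p : ℤ) = 1))
  rcases ha with rfl | rfl
  · exact re_pow_ne hbev hb0 ⟨j, rfl⟩ (by omega) (by rw [hab])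
  · -- then the real part is `-1` modulo `4`
    have hneg : (⟨-1, b⟩ : GI) = -(⟨1, -b⟩ : GI) := by ext <;> simp
    rw [hneg, neg_pow, Odd.neg_one_pow ⟨j, rfl⟩, neg_one_mul] at hab
    have key : ∀ m : ℕ, (4 : ℤ) ∣ ((⟨1, -b⟩ : GI) ^ m).re - 1 ∧
        Even ((⟨1, -b⟩ : GI) ^ m).im := by
      intro m
      induction m with
      | zero => simp
      | succ m ih =>
        rw [pow_succ, Zsqrtd.re_mul, Zsqrtd.im_mul]
        obtain ⟨⟨s, hs⟩, t, ht⟩ := ih
        obtain ⟨v, hv⟩ := hbev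
        refine ⟨⟨s + t * v, ?_⟩, ?_⟩
        · simp only; rw [ht]; linear_combination hs + 2 * t * hv
        · simp only; rw [ht, hv]; simp [parity_simps]
    obtain ⟨s, hs⟩ := (key (2 * j + 1)).1
    have : ((⟨1, -b⟩ : GI) ^ (2 * j + 1)).re = -1 := by
      have := congrArg Zsqrtd.re hab
      simp [hu] at this
      linarith
    omega

/-- A coprime factor of a square is a square. -/
theorem isSquare_of_coprime_mul {a b : ℕ} (hab : a.Coprime b) (h : IsSquare (a * b)) :
    IsSquare a := by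
  obtain ⟨s, hs⟩ := h
  obtain ⟨d, hd⟩ := exists_eq_pow_of_mul_eq_pow (c := s) (k := 2)
    (Nat.isUnit_iff.2 hab) (by rw [hs, pow_two])
  exact ⟨d, by rw [hd, pow_two]⟩

/-- A quarter of a square multiple of four is a square. -/
theorem isSquare_of_four_mul {x : ℕ} (h : IsSquare (4 * x)) : IsSquare x := by
  obtain ⟨s, hs⟩ := h
  have h2 : 2 ∣ s := (Nat.prime_two.dvd_mul.1 ⟨2 * x, by rw [← hs]; ring⟩).elim id id
  obtain ⟨d, rfl⟩ := h2
  exact ⟨d, by linarith⟩

/-- If a prime `n + 1` that is primitive for `p ^ n - 1` times this number is a square and four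
divides `n` then `n` is four. -/
theorem eq_four_of_square {p n r : ℕ} (hp : p.Prime) (h2 : p ≠ 2) (hn : n ≠ 0) (h4 : 4 ∣ n)
    (hr : r.Prime) (hdvd : r ∣ p ^ n - 1) (hprim : ∀ k, 0 < k → k < n → ¬ r ∣ p ^ k - 1)
    (hsq : IsSquare ((p ^ n - 1) * r)) : n = 4 := by
  obtain ⟨i, rfl⟩ := h4
  have hodd : ∀ k, p ^ k % 2 = 1 := fun k => Nat.odd_iff.1 ((hp.odd_of_ne_two h2).pow)
  -- split off the half
  have key : ∀ k, ∃ A B, p ^ k = 2 * A + 1 ∧ B = A + 1 ∧ p ^ (2 * k) - 1 = 4 * (A * B) := by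
    intro k
    refine ⟨p ^ k / 2, p ^ k / 2 + 1, by have := hodd k; omega, rfl, ?_⟩
    have h := Nat.div_add_mod (p ^ k) 2
    rw [hodd k] at h
    rw [pow_mul', Nat.sub_eq_iff_eq_add (Nat.one_le_pow _ _ (pow_pos hp.pos _))]
    conv_lhs => rw [← h]
    ring
  obtain ⟨A, B, hA, hB, hAB⟩ := key (2 * i)
  rw [show 2 * (2 * i) = 4 * i by ring] at hAB
  have hrA : ¬ r ∣ A := by
    intro h
    refine hprim (2 * i) (by omega) (by omega) ?_
    rw [hA, Nat.add_sub_cancel]
    exact h.mul_left 2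
  have hcop : A.Coprime (B * r) := by
    refine Nat.Coprime.mul_right ?_ ((hr.coprime_iff_not_dvd.2 hrA).symm)
    rw [hB]
    exact (Nat.coprime_self_add_right).2 (Nat.coprime_one_right A)
  have hsqA : IsSquare A := isSquare_of_coprime_mul hcop (isSquare_of_four_mul (by
    rw [← mul_assoc A, ← mul_assoc, ← hAB]; exact hsq))
  obtain ⟨v, hv⟩ := hsqA
  obtain ⟨C, D, hC, hD, hCD⟩ := key i
  have hCD' : 2 * (C * D) = v * v := by
    rw [hA, Nat.add_sub_cancel, hv] at hCD
    linarith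
  have hcop' : C.Coprime D := by rw [hD]; exact (Nat.coprime_self_add_right).2 (Nat.coprime_one_right C)
  suffices i ≤ 1 by omega
  rcases Nat.even_or_odd C with hCe | hCo
  · have hD2 : D.Coprime 2 := Nat.coprime_two_right.2 (hD ▸ hCe.add_one)
    obtain ⟨y, hy⟩ := isSquare_of_coprime_mul (a := 2 * C) (b := D)
      (Nat.Coprime.mul_left hD2.symm hcop') ⟨v, by rw [← hCD']; ring⟩
    exact lebesgue hp h2 (y := y) (by rw [hC, hy, pow_two]; ring)
  · have hC2 : C.Coprime 2 := Nat.coprime_two_right.2 hCo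
    obtain ⟨y, hy⟩ := isSquare_of_coprime_mul (a := 2 * D) (b := C)
      (Nat.Coprime.mul_left hC2.symm hcop'.symm) ⟨v, by rw [← hCD']; ring⟩
    rcases y with _ | _ | y
    · omega
    · omega
    have hy' : p ^ i = (y + 1) * (y + 3) := by rw [hC]; linarith
    obtain ⟨a, -, ha⟩ := (Nat.dvd_prime_pow hp).1 (Dvd.intro _ hy'.symm)
    obtain ⟨b, -, hb⟩ := (Nat.dvd_prime_pow hp).1 (Dvd.intro_left _ hy'.symm)
    by_cases ha0 : a = 0
    · subst ha0
      obtain rfl : y = 0 := by simpa using ha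
      by_contra hi
      have : p ^ 2 ≤ p ^ i := pow_le_pow_right' hp.one_le (by omega)
      have : 3 ≤ p := by have := hp.two_le; omega
      nlinarith
    · exfalso
      have hpb : p ∣ y + 3 := hb ▸ dvd_pow_self p (by rintro rfl; simp at hb)
      have hpa : p ∣ y + 1 := ha ▸ dvd_pow_self p ha0
      have := Nat.le_of_dvd two_pos ((Nat.dvd_add_right hpa).1 hpb)
      have := hp.two_le
      omega

end Cfsg.Agent.ThreeCharBlock
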