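import Cfsg.Agent.Char.Gallagher
import Cfsg.Agent.Char.Linear
import Cfsg.Agent.Char.UniqueDivisible
import Cfsg.Agent.ProjExt.Criteria
import Cfsg.Agent.Core.Hall

/-!
# A class function on one coset of an invariant character with cyclic centraliser
-/

set_option autoImplicit false

namespace Cfsg.Agent.ThreeCharBlock

open Cfsg.Agent.Char
open scoped ComplexConjugate

universe u

/-- The dual group separates the elements of a finite abelian group. -/
theorem sum_dual {K : Type u} [Group K] [Finite K] (hc : ∀ a b : K, a * b = b * a)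
    [Fintype (K →* ℂˣ)] [DecidableEq K] (a : K) :
    ∑ l : K →* ℂˣ, (l a : ℂ) = if a = 1 then (Nat.card K : ℂ) else 0 := by
  letI : CommGroup K := { (inferInstance : Group K) with mul_comm := hc }
  split_ifs with h
  · subst h
    simp only [map_one, Units.val_one, Finset.sum_const, Finset.card_univ, nsmul_eq_mul, mul_one]
    rw [← Nat.card_eq_fintype_card]
    obtain ⟨e⟩ := CommGroup.monoidHom_mulEquiv_of_hasEnoughRootsOfUnity K ℂ
    rw [Nat.card_congr e.toEquiv]
  · obtain ⟨l₀, hl₀⟩ := CommGroup.exists_apply_ne_one_of_hasEnoughRootsOfUnity K ℂ h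
    have h1 : (l₀ a : ℂ) * ∑ l : K →* ℂˣ, (l a : ℂ) = ∑ l : K →* ℂˣ, (l a : ℂ) := by
      rw [Finset.mul_sum]
      exact Fintype.sum_equiv (Equiv.mulLeft l₀) _ _ fun l => by simp
    exact (mul_left_eq_self₀.1 h1).resolve_left fun h2 => hl₀ (Units.ext h2)

theorem isIntegral_conj {z : ℂ} (h : IsIntegral ℤ z) : IsIntegral ℤ (conj z) :=
  h.map (RingHom.toIntAlgHom (starRingEnd ℂ))

variable {T : Type u} [Group T] [Fintype T] (H : Subgroup T) [H.Normal] [Fintype H]
  {θ : H → ℂ}

/-- For an invariant character and an element of the quotient with cyclic centraliser there is a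
class function living on the class of the element, orthogonal to the induced character, of norm
the inverse of the order of the centraliser, and spanned by the characters over the given one. -/
theorem exists_coset_fun (hθ : IsIrrCharacter H θ) (hinv : ∀ t : T, conjFun t θ = θ)
    (y : T ⧸ H) (hy : y ≠ 1) (hcyc : IsCyclic (Subgroup.centralizer ({y} : Set (T ⧸ H)))) :
    ∃ F : T → ℂ, IsClassFunction T F ∧ (∀ g : T, F g ≠ 0 → IsConj (g : T ⧸ H) y) ∧
      classInner (fun n : H => F n) θ = 0 ∧
      classInner F F = (Nat.card (Subgroup.centralizer ({y} : Set (T ⧸ H))) : ℂ)⁻¹ ∧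
      ∀ ψ : IrrCharacter T,
        IsIntegral ℤ ((Nat.card (Subgroup.centralizer ({y} : Set (T ⧸ H))) : ℂ) *
          classInner F (ψ : T → ℂ)) ∧
        (classInner (fun n : H => (ψ : T → ℂ) n) θ = 0 → classInner F (ψ : T → ℂ) = 0) := by
  classical
  set K := Subgroup.centralizer ({y} : Set (T ⧸ H)) with hK
  set U := K.comap (QuotientGroup.mk' H) with hU
  have hmemU : ∀ u : T, u ∈ U ↔ (u : T ⧸ H) * y = y * (u : T ⧸ H) := fun u => by
    rw [hU, Subgroup.mem_comap, hK, Subgroup.mem_centralizer_singleton_iff]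
    rfl
  have hHU : H ≤ U := fun h hh => (hmemU h).2 (by
    rw [(QuotientGroup.eq_one_iff h).2 hh, one_mul, mul_one])
  have := Fintype.ofFinite U
  let H' := H.subgroupOf U
  have : H'.Normal := Subgroup.normal_subgroupOf
  have := Fintype.ofFinite H'
  -- the projection to the centraliser
  let π : U →* K := ((QuotientGroup.mk' H).comp U.subtype).codRestrict K fun u => u.2
  have hπ : ∀ u : U, ((π u : K) : T ⧸ H) = ((u : T) : T ⧸ H) := fun _ => rfl
  have hπker : ∀ u : U, π u = 1 ↔ u ∈ H' := fun u => by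
    rw [Subtype.ext_iff, hπ, Subgroup.coe_one, QuotientGroup.eq_one_iff]
    exact Subgroup.mem_subgroupOf.symm
  have hcycQ : IsCyclic (U ⧸ H') := by
    let f : U ⧸ H' →* K := QuotientGroup.lift H' π fun u hu => (hπker u).2 hu
    refine isCyclic_of_injective f ((injective_iff_map_eq_one f).2 fun q hq => ?_)
    obtain ⟨u, rfl⟩ := QuotientGroup.mk_surjective q
    exact (QuotientGroup.eq_one_iff u).2 ((hπker u).1 hq)
  -- the extension
  let θ' : H' → ℂ := fun x => θ ⟨(x : U), Subgroup.mem_subgroupOf.1 x.2⟩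
  have hθ' : IsIrrCharacter H' θ' :=
    (isIrrCharacter_comp_equiv (Subgroup.subgroupOfEquivOfLe hHU)).2 hθ
  obtain ⟨D⟩ := ProjExt.exists_data hθ' fun g n =>
    congrFun (hinv (g : T)) ⟨((n : U) : T), Subgroup.mem_subgroupOf.1 n.2⟩
  obtain ⟨η, hη, hηθ⟩ := D.exists_extension_of_splits
    (D.cocycle.splits_of_cyclic hcycQ ProjExt.exists_root)
  have hηres : IsIrrCharacter H' (fun n : H' => η n) := by
    rw [show (fun n : H' => η n) = θ' from funext hηθ]
    exact hθ'
  -- the function on the coset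
  let f : U → ℂ := fun u => if ((u : T) : T ⧸ H) = y then η u else 0
  have hfcl : IsClassFunction U f := by
    intro u v
    have hcy : (((v * u * v⁻¹ : U) : T) : T ⧸ H) = y ↔ ((u : T) : T ⧸ H) = y := by
      rw [Subgroup.coe_mul, Subgroup.coe_mul, Subgroup.coe_inv, QuotientGroup.mk_mul,
        QuotientGroup.mk_mul, QuotientGroup.mk_inv]
      have hv := (hmemU v).1 v.2
      constructor
      · intro e
        have : ((u : T) : T ⧸ H) = ((v : T) : T ⧸ H)⁻¹ * y * ((v : T) : T ⧸ H) := by
          rw [← e]; group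
        rw [this, mul_assoc, ← hv, inv_mul_cancel_left]
      · intro e
        rw [e, hv, mul_inv_cancel_right]
    simp only [f, hcy, isClassFunction_of_isIrr hη u v]
  set F := indFun U f with hF
  have hconjy : ∀ g x : T, extendByZero U f (x⁻¹ * g * x) ≠ 0 →
      ((x⁻¹ * g * x : T) : T ⧸ H) = y := by
    intro g x hne
    by_cases hm : x⁻¹ * g * x ∈ U
    · rw [extendByZero_of_mem U f hm] at hne
      by_contra h
      exact hne (if_neg h)
    · exact absurd (extendByZero_of_not_mem U f hm) hne
  have hsupp : ∀ g : T, F g ≠ 0 → IsConj (g : T ⧸ H) y := by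
    intro g hg
    rw [hF, indFun_apply] at hg
    obtain ⟨x, -, hx⟩ := Finset.exists_ne_zero_of_sum_ne_zero (right_ne_zero_of_mul hg)
    refine isConj_iff.2 ⟨(x : T ⧸ H)⁻¹, ?_⟩
    rw [inv_inv]
    exact hconjy g x hx
  have hH0 : ∀ n : H, F n = 0 := fun n => by
    by_contra h
    have := hsupp n h
    rw [(QuotientGroup.eq_one_iff (n : T)).2 n.2] at this
    exact hy (isConj_one_right.1 this)
  have hFf : ∀ u : U, ((u : T) : T ⧸ H) = y → F u = η u := by
    intro u hu
    rw [hF, indFun_apply]
    have hterm : ∀ x : T, extendByZero U f (x⁻¹ * (u : T) * x) = if x ∈ U then η u else 0 := by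
      intro x
      by_cases hx : x ∈ U
      · rw [if_pos hx]
        have hm : x⁻¹ * (u : T) * x ∈ U := U.mul_mem (U.mul_mem (U.inv_mem hx) u.2) hx
        rw [extendByZero_of_mem U f hm]
        have := hfcl u ⟨x, hx⟩⁻¹
        rw [show (⟨x⁻¹ * (u : T) * x, hm⟩ : U) = ⟨x, hx⟩⁻¹ * u * (⟨x, hx⟩⁻¹)⁻¹ from
          Subtype.ext (by simp), this]
        exact if_pos hu
      · rw [if_neg hx]
        by_contra hne
        have h1 := hconjy u x hne
        rw [QuotientGroup.mk_mul, QuotientGroup.mk_mul, QuotientGroup.mk_inv, hu] at h1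
        refine hx ((hmemU x).2 ?_)
        calc (x : T ⧸ H) * y = (x : T ⧸ H) * ((x : T ⧸ H)⁻¹ * y * (x : T ⧸ H)) := by rw [h1]
          _ = y * (x : T ⧸ H) := by group
    rw [Finset.sum_congr rfl fun x _ => hterm x, Finset.sum_ite, Finset.sum_const_zero, add_zero,
      Finset.sum_const, nsmul_eq_mul, ← Fintype.card_subtype, ← Nat.card_eq_fintype_card,
      ← mul_assoc, inv_mul_cancel₀ (card_ne_zero (G := U)), one_mul]
  -- the norm
  have hcardU : Nat.card U = Nat.card H * Nat.card K := Core.card_comap_mk H K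
  obtain ⟨t, ht⟩ := QuotientGroup.mk_surjective y
  have htU : t ∈ U := (hmemU t).2 (by rw [ht])
  have hnorm : classInner F F = (Nat.card K : ℂ)⁻¹ := by
    rw [hF, classInner_indFun_left U f (isClassFunction_indFun U f), ← hF]
    have hterm : ∀ u : U, f u * conj (F u) =
        if u * (⟨t, htU⟩ : U)⁻¹ ∈ H' then η u * conj (η u) else 0 := by
      intro u
      have hiff : ((u : T) : T ⧸ H) = y ↔ u * (⟨t, htU⟩ : U)⁻¹ ∈ H' := by
        rw [Subgroup.mem_subgroupOf, ← QuotientGroup.eq_one_iff, Subgroup.coe_mul,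
          Subgroup.coe_inv, QuotientGroup.mk_mul, QuotientGroup.mk_inv, ht, mul_inv_eq_one]
      by_cases h : ((u : T) : T ⧸ H) = y
      · rw [if_pos (hiff.1 h), hFf u h]
        simp only [f, if_pos h]
      · rw [if_neg (mt hiff.2 h)]
        simp only [f, if_neg h, zero_mul]
    have havg := avg_normSq_eq_one H' hη hηres ⟨t, htU⟩
    rw [inv_mul_eq_iff_eq_mul₀ (card_ne_zero (G := H')), mul_one] at havg
    rw [classInner, Finset.sum_congr rfl fun u _ => hterm u, Finset.sum_ite, Finset.sum_const_zero,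
      add_zero]
    rw [Finset.sum_bij' (t := (Finset.univ : Finset H'))
      (g := fun n : H' => η ((n : U) * ⟨t, htU⟩) * conj (η ((n : U) * ⟨t, htU⟩)))
      (fun u hu => (⟨u * (⟨t, htU⟩ : U)⁻¹, (Finset.mem_filter.1 hu).2⟩ : H'))
      (fun n _ => (n : U) * ⟨t, htU⟩) (fun _ _ => Finset.mem_univ _)
      (fun n _ => Finset.mem_filter.2 ⟨Finset.mem_univ _, by simp⟩)
      (fun u _ => by simp) (fun n _ => by simp) (fun u _ => by simp), havg,
      Nat.card_congr (Subgroup.subgroupOfEquivOfLe hHU).toEquiv, hcardU, Nat.cast_mul, mul_inv]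
    have := card_ne_zero (G := H)
    field_simp
  refine ⟨F, isClassFunction_indFun U f, hsupp, ?_, hnorm, fun ψ => ?_⟩
  · rw [show (fun n : H => F n) = 0 from funext hH0, classInner_zero_left]
  -- the expansion on linear characters of the centraliser
  have hKc : ∀ a b : K, a * b = b * a := fun a b => IsMulCommutative.is_comm.comm a b
  letI : CommGroup K := { (inferInstance : Group K) with mul_comm := hKc }
  obtain ⟨eqv⟩ := CommGroup.monoidHom_mulEquiv_of_hasEnoughRootsOfUnity K ℂ
  have : Finite (K →* ℂˣ) := Finite.of_equiv _ eqv.symm.toEquiv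
  let := Fintype.ofFinite (K →* ℂˣ)
  let yK : K := ⟨y, Subgroup.mem_centralizer_singleton_iff.2 rfl⟩
  let tw : (K →* ℂˣ) → U → ℂ := fun l u => η u * (l (π u) : ℂ)
  have htw : ∀ l, IsIrrCharacter U (tw l) := fun l => isIrr_mul_hom hη (l.comp π)
  have hexp : (Nat.card K : ℂ) • f = ∑ l : K →* ℂˣ, (l yK⁻¹ : ℂ) • tw l := by
    funext u
    simp only [Pi.smul_apply, Finset.sum_apply, smul_eq_mul, f, tw]
    rw [Finset.sum_congr rfl fun l _ => show (l yK⁻¹ : ℂ) * (η u * (l (π u) : ℂ)) =
        η u * (l (yK⁻¹ * π u) : ℂ) by rw [map_mul, Units.val_mul]; ring,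
      ← Finset.mul_sum, sum_dual hKc]
    have hiff : yK⁻¹ * π u = 1 ↔ ((u : T) : T ⧸ H) = y := by
      rw [inv_mul_eq_one, Subtype.ext_iff, hπ]
      exact eq_comm
    simp only [hiff]
    split_ifs <;> ring
  have hinner : (Nat.card K : ℂ) * classInner F (ψ : T → ℂ) =
      ∑ l : K →* ℂˣ, (l yK⁻¹ : ℂ) * classInner (tw l) (fun u : U => (ψ : T → ℂ) u) := by
    rw [hF, classInner_indFun_left U f (isClassFunction_of_isIrr ψ.2), ← classInner_smul_left, hexp,
      classInner_sum_left]
    exact Finset.sum_congr rfl fun l _ => classInner_smul_left _ _ _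
  have hψU := isCharacter_res U (IsIrr.isCharacter ψ.2)
  refine ⟨?_, fun h0 => ?_⟩
  · rw [hinner]
    refine IsIntegral.sum _ fun l _ => IsIntegral.mul ?_ ?_
    · have := IsChar.isIntegral (isCharacter_hom l) yK⁻¹
      exact this
    · obtain ⟨k, hk⟩ := classInner_isCharacter_eq_natCast (IsIrr.isCharacter (htw l)) hψU
      rw [hk]
      exact isIntegral_natCast k
  · have hzero : ∀ l, classInner (tw l) (fun u : U => (ψ : T → ℂ) u) = 0 := by
      intro l
      by_contra hne
      have hne' : classInner (fun u : U => (ψ : T → ℂ) u) (tw l) ≠ 0 := by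
        rw [← classInner_conj_symm]
        exact fun e => hne (by simpa using e)
      have hsub := IsChar.sub_constituent hψU (htw l) hne'
      obtain ⟨k, hk⟩ := classInner_isCharacter_eq_natCast
        (isCharacter_comp (Subgroup.inclusion hHU) hsub) (IsIrr.isCharacter hθ)
      have hres : (fun n : H => tw l (Subgroup.inclusion hHU n)) = θ := funext fun n => by
        have h1 : π (Subgroup.inclusion hHU n) = 1 :=
          (hπker _).2 (Subgroup.mem_subgroupOf.2 n.2)
        simp only [tw, h1, map_one, Units.val_one, mul_one]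
        exact hηθ ⟨Subgroup.inclusion hHU n, Subgroup.mem_subgroupOf.2 n.2⟩
      have h2 : classInner (fun n : H => (ψ : T → ℂ) n - tw l (Subgroup.inclusion hHU n)) θ =
          classInner (fun n : H => (ψ : T → ℂ) n) θ -
            classInner (fun n : H => tw l (Subgroup.inclusion hHU n)) θ :=
        classInner_sub_left (fun n : H => (ψ : T → ℂ) n) _ θ
      change classInner (fun n : H => (ψ : T → ℂ) n - tw l (Subgroup.inclusion hHU n)) θ = (k : ℂ)
        at hk
      rw [h2, h0, hres, classInner_irr_self hθ] at hk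
      have h3 : ((k + 1 : ℕ) : ℂ) = ((0 : ℕ) : ℂ) := by push_cast; linear_combination -hk
      exact absurd (Nat.cast_inj.1 h3) (Nat.succ_ne_zero k)
    have h1 : (Nat.card K : ℂ) * classInner F (ψ : T → ℂ) = 0 := by
      rw [hinner, Finset.sum_eq_zero fun l _ => by rw [hzero l, mul_zero]]
    exact (mul_eq_zero.1 h1).resolve_left card_ne_zero

end Cfsg.Agent.ThreeCharBlock
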