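import Cfsg.Agent.ThreeCharBlock.CosetFun
import Cfsg.Agent.ThreeCharBlock.Arith
import Cfsg.Agent.Char.Clifford
import Cfsg.Agent.Char.Integral

/-!
# An invariant character with at most two characters above it
-/

set_option autoImplicit false

namespace Cfsg.Agent.ThreeCharBlock

open Cfsg.Agent.Char
open scoped ComplexConjugate

universe u

/-- A natural number is a square when a square multiple of it is. -/
theorem isSquare_of_mul_sq {x c : ℕ} (hc : c ≠ 0) (h : IsSquare (x * c ^ 2)) : IsSquare x := by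
  obtain ⟨s, hs⟩ := h
  have hcs : c ∣ s := (Nat.pow_dvd_pow_iff two_ne_zero).1 ⟨x, by rw [pow_two s, ← hs, mul_comm]⟩
  obtain ⟨t, rfl⟩ := hcs
  refine ⟨t, Nat.eq_of_mul_eq_mul_right (pow_pos (Nat.pos_of_ne_zero hc) 2) ?_⟩
  rw [hs]
  ring

/-- The multiplicities over a character of a normal subgroup have sum of squares the index in
the inertia subgroup. -/
theorem exists_mult_sum_sq {G : Type u} [Group G] [Fintype G] {N : Subgroup G} [N.Normal]
    [Fintype N] {θ : N → ℂ} (hθ : IsIrrCharacter N θ) :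
    ∃ m : IrrCharacter G → ℕ,
      (∀ χ : IrrCharacter G, classInner (fun n : N => (χ : G → ℂ) n) θ = (m χ : ℂ)) ∧
      ∑ χ : IrrCharacter G, m χ ^ 2 = N.relIndex (inertia θ) := by
  classical
  choose m hm using fun χ : IrrCharacter G => classInner_isCharacter_eq_natCast
    (isCharacter_res N (IsIrr.isCharacter χ.2)) (IsIrr.isCharacter hθ)
  refine ⟨m, hm, ?_⟩
  have h1 := classInner_eq_sum (f := indFun N θ) (f' := indFun N θ) (isClassFunction_indFun N θ)
  rw [classInner_indFun_indFun hθ hθ, Finset.sum_congr rfl fun (χ : IrrCharacter G) _ =>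
    show classInner (indFun N θ) (χ : G → ℂ) * classInner (χ : G → ℂ) (indFun N θ) =
      ((m χ ^ 2 : ℕ) : ℂ) by
      rw [classInner_indFun_right N θ (isClassFunction_of_isIrr χ.2),
        classInner_indFun_left N θ (isClassFunction_of_isIrr χ.2), ← classInner_conj_symm, hm,
        map_natCast]
      push_cast
      ring, ← Nat.cast_sum] at h1
  have h2 : N.relIndex (inertia θ) * Nat.card N = Nat.card {g : G // conjFun g θ = θ} := by
    rw [mul_comm, ← Subgroup.relIndex_bot_left (H := N),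
      Subgroup.relIndex_mul_relIndex _ _ _ bot_le
        (le_inertia (N := N) (isClassFunction_of_isIrr hθ)), Subgroup.relIndex_bot_left]
    rfl
  rw [← h2, Nat.cast_mul, mul_comm ((N.relIndex _ : ℕ) : ℂ),
    inv_mul_cancel_left₀ (card_ne_zero (G := N))] at h1
  exact_mod_cast h1.symm

/-- At most two characters above an invariant character force all elements of the quotient with
cyclic centralisers to be conjugate, and centralisers of prime order to give sums of two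
squares. -/
theorem two_over {T : Type u} [Group T] [Fintype T] (H : Subgroup T) [H.Normal] [Fintype H]
    {θ : H → ℂ} (hθ : IsIrrCharacter H θ) (hinv : ∀ t : T, conjFun t θ = θ)
    (h2 : Nat.card {ψ : IrrCharacter T //
      classInner (fun n : H => (ψ : T → ℂ) n) θ ≠ 0} ≤ 2) :
    (∀ y z : T ⧸ H, y ≠ 1 → z ≠ 1 → IsCyclic (Subgroup.centralizer ({y} : Set (T ⧸ H))) →
      IsCyclic (Subgroup.centralizer ({z} : Set (T ⧸ H))) → IsConj y z) ∧
    ∀ (y : T ⧸ H) (r : ℕ), y ≠ 1 → r.Prime →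
      Nat.card (Subgroup.centralizer ({y} : Set (T ⧸ H))) = r →
      ∃ e₁ e₂ c, c ≠ 0 ∧ r = e₁ ^ 2 + e₂ ^ 2 ∧ H.index * e₁ ^ 2 = r * c ^ 2 := by
  classical
  obtain ⟨m, hm, hsum⟩ := exists_mult_sum_sq hθ
  have htop : inertia θ = ⊤ := eq_top_iff.2 fun t _ => hinv t
  rw [htop, Subgroup.relIndex_top_right] at hsum
  set S := Finset.univ.filter fun ψ : IrrCharacter T => m ψ ≠ 0 with hS
  have hScard : S.card ≤ 2 := by
    refine le_trans (le_of_eq ?_) h2
    rw [← Nat.card_eq_finsetCard]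
    exact Nat.card_congr (Equiv.subtypeEquivRight fun ψ => by
      rw [hS, Finset.mem_filter, hm]
      simp)
  have hsub : ∀ {X : Type} [AddCommMonoid X] (f : IrrCharacter T → X),
      (∀ ψ, m ψ = 0 → f ψ = 0) → ∑ ψ, f ψ = ∑ ψ ∈ S, f ψ := fun f hf =>
    (Finset.sum_subset (Finset.subset_univ S) fun ψ _ hψ => hf ψ (by simpa [hS] using hψ)).symm
  -- reduction of the data of a coset function to two coefficients
  have hpair : ∀ y : T ⧸ H, y ≠ 1 → IsCyclic (Subgroup.centralizer ({y} : Set (T ⧸ H))) →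
      ∀ F : T → ℂ, IsClassFunction T F → classInner (fun n : H => F n) θ = 0 →
      (∀ ψ : IrrCharacter T,
        classInner (fun n : H => (ψ : T → ℂ) n) θ = 0 → classInner F (ψ : T → ℂ) = 0) →
      F ≠ 0 → ∃ ψ₁ ψ₂, S = {ψ₁, ψ₂} ∧ ψ₁ ≠ ψ₂ ∧
        (m ψ₁ : ℂ) * classInner F (ψ₁ : T → ℂ) + (m ψ₂ : ℂ) * classInner F (ψ₂ : T → ℂ) = 0 := by
    intro y _ _ F hF hF0 hoff hne
    have hrel : ∑ ψ ∈ S, (m ψ : ℂ) * classInner F (ψ : T → ℂ) = 0 := by
      rw [← classInner_indFun_right H θ hF, classInner_eq_sum hF] at hF0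
      rw [← hsub _ fun ψ e => by rw [e, Nat.cast_zero, zero_mul], ← hF0]
      refine Finset.sum_congr rfl fun ψ _ => ?_
      rw [classInner_indFun_right H θ (isClassFunction_of_isIrr ψ.2), hm]
      ring
    have hex : ∃ ψ ∈ S, classInner F (ψ : T → ℂ) ≠ 0 := by
      by_contra! hall
      refine hne ((classFun_expansion hF).trans (Finset.sum_eq_zero fun ψ _ => ?_))
      by_cases hψ : ψ ∈ S
      · rw [hall ψ hψ, zero_smul]
      · rw [hoff ψ (by rw [hm]; simpa [hS] using hψ), zero_smul]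
    obtain ⟨ψ, hψ, hb⟩ := hex
    have hmψ : m ψ ≠ 0 := (Finset.mem_filter.1 hψ).2
    rcases Nat.lt_or_ge S.card 2 with h1 | h1
    · rw [Finset.eq_singleton_iff_unique_mem.2 ⟨hψ, fun x hx =>
        Finset.card_le_one.1 (by omega) x hx ψ hψ⟩, Finset.sum_singleton] at hrel
      exact absurd hrel (mul_ne_zero (Nat.cast_ne_zero.2 hmψ) hb)
    obtain ⟨ψ₁, ψ₂, hne12, hS2⟩ := Finset.card_eq_two.1 (le_antisymm hScard h1)
    rw [hS2, Finset.sum_pair hne12] at hrel
    exact ⟨ψ₁, ψ₂, hS2, hne12, hrel⟩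
  have hexpand : ∀ F F' : T → ℂ, IsClassFunction T F →
      (∀ ψ : IrrCharacter T,
        classInner (fun n : H => (ψ : T → ℂ) n) θ = 0 → classInner F (ψ : T → ℂ) = 0) →
      classInner F F' = ∑ ψ ∈ S, classInner F (ψ : T → ℂ) * conj (classInner F' (ψ : T → ℂ)) := by
    intro F F' hF hoff
    rw [classInner_eq_sum hF, hsub _ fun ψ e => by
      rw [hoff ψ (by rw [hm, e, Nat.cast_zero]), zero_mul]]
    exact Finset.sum_congr rfl fun ψ _ => by rw [classInner_conj_symm]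
  have hne0 : ∀ {F : T → ℂ} {r : ℕ}, r ≠ 0 → classInner F F = (r : ℂ)⁻¹ → F ≠ 0 := by
    rintro F r hr h rfl
    rw [classInner_zero_left] at h
    exact inv_ne_zero (Nat.cast_ne_zero.2 hr) h.symm
  refine ⟨fun y z hy hz hcy hcz => ?_, fun y r hy hr hcard => ?_⟩
  · obtain ⟨F, hF, hFs, hF0, hFn, hFi⟩ := exists_coset_fun H hθ hinv y hy hcy
    obtain ⟨F', hF', hFs', hF0', hFn', hFi'⟩ := exists_coset_fun H hθ hinv z hz hcz
    have hFne := hne0 Nat.card_pos.ne' hFn
    have hFne' := hne0 Nat.card_pos.ne' hFn'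
    by_contra hnc
    have hdis : classInner F F' = 0 := by
      rw [classInner, Finset.sum_eq_zero fun g _ => ?_, mul_zero]
      by_contra hg
      have h1 := hFs g (left_ne_zero_of_mul hg)
      have h2 := hFs' g (fun e => hg (by rw [e, map_zero, mul_zero]))
      exact hnc (h1.symm.trans h2)
    obtain ⟨ψ₁, ψ₂, hS2, h12, hrel⟩ := hpair y hy hcy F hF hF0 (fun ψ => (hFi ψ).2) hFne
    obtain ⟨ψ₁', ψ₂', hS2', h12', hrel'0⟩ := hpair z hz hcz F' hF' hF0' (fun ψ => (hFi' ψ).2) hFne'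
    have hrel' : (m ψ₁ : ℂ) * classInner F' (ψ₁ : T → ℂ) +
        (m ψ₂ : ℂ) * classInner F' (ψ₂ : T → ℂ) = 0 := by
      rw [← Finset.sum_pair (f := fun ψ => (m ψ : ℂ) * classInner F' ((ψ : IrrCharacter T) : T → ℂ))
        h12, ← hS2, hS2', Finset.sum_pair h12']
      exact hrel'0
    have hm1 : (m ψ₁ : ℂ) ≠ 0 := Nat.cast_ne_zero.2 (Finset.mem_filter.1
      (show ψ₁ ∈ S by rw [hS2]; simp)).2
    rw [hexpand F F' hF (fun ψ => (hFi ψ).2), hS2, Finset.sum_pair h12] at hdis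
    set b₁ := classInner F (ψ₁ : T → ℂ)
    set b₂ := classInner F (ψ₂ : T → ℂ)
    set c₁ := classInner F' (ψ₁ : T → ℂ)
    set c₂ := classInner F' (ψ₂ : T → ℂ)
    have hrelc := congrArg (starRingEnd ℂ) hrel'
    simp only [map_add, map_mul, map_natCast, map_zero] at hrelc
    have hprod : (((m ψ₁) ^ 2 + (m ψ₂) ^ 2 : ℕ) : ℂ) * (b₂ * conj c₂) = 0 := by
      push_cast
      linear_combination (m ψ₁ : ℂ) ^ 2 * hdis - (m ψ₁ : ℂ) * conj c₁ * hrel +
        (m ψ₂ : ℂ) * b₂ * hrelc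
    rcases mul_eq_zero.1 hprod with h | h
    · have h' : m ψ₁ ^ 2 + m ψ₂ ^ 2 = 0 := Nat.cast_eq_zero.1 h
      exact hm1 (Nat.cast_eq_zero.2 (by nlinarith))
    rcases mul_eq_zero.1 h with h | h
    · refine hFne ((classFun_expansion hF).trans (Finset.sum_eq_zero fun ψ _ => ?_))
      by_cases hψ : ψ ∈ S
      · rw [hS2, Finset.mem_insert, Finset.mem_singleton] at hψ
        rw [h, mul_zero, add_zero, mul_eq_zero] at hrel
        rcases hψ with rfl | rfl
        · show b₁ • _ = 0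
          rw [hrel.resolve_left hm1, zero_smul]
        · show b₂ • _ = 0
          rw [h, zero_smul]
      · rw [(hFi ψ).2 (by rw [hm]; simpa [hS] using hψ), zero_smul]
    · refine hFne' ((classFun_expansion hF').trans (Finset.sum_eq_zero fun ψ _ => ?_))
      have h0 : c₂ = 0 := by simpa using h
      by_cases hψ : ψ ∈ S
      · rw [hS2, Finset.mem_insert, Finset.mem_singleton] at hψ
        rw [h0, mul_zero, add_zero, mul_eq_zero] at hrel'
        rcases hψ with rfl | rfl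
        · show c₁ • _ = 0
          rw [hrel'.resolve_left hm1, zero_smul]
        · show c₂ • _ = 0
          rw [h0, zero_smul]
      · rw [(hFi' ψ).2 (by rw [hm]; simpa [hS] using hψ), zero_smul]
  · have := Fact.mk hr
    obtain ⟨F, hF, -, hF0, hFn, hFi⟩ :=
      exists_coset_fun H hθ hinv y hy (isCyclic_of_prime_card hcard)
    rw [hcard] at hFn hFi
    obtain ⟨ψ₁, ψ₂, hS2, h12, hrel⟩ := hpair y hy (isCyclic_of_prime_card hcard) F hF hF0
      (fun ψ => (hFi ψ).2) (hne0 hr.ne_zero hFn)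
    rw [hexpand F F hF (fun ψ => (hFi ψ).2), hS2, Finset.sum_pair h12] at hFn
    have hidx : H.index = m ψ₁ ^ 2 + m ψ₂ ^ 2 := by
      rw [← hsum, ← Finset.sum_pair (f := fun ψ => m ψ ^ 2) h12, ← hS2]
      exact hsub _ fun ψ e => by rw [e]; rfl
    have hm1 : m ψ₁ ≠ 0 := (Finset.mem_filter.1 (show ψ₁ ∈ S by rw [hS2]; simp)).2
    have hm2 : m ψ₂ ≠ 0 := (Finset.mem_filter.1 (show ψ₂ ∈ S by rw [hS2]; simp)).2
    set b₁ := classInner F (ψ₁ : T → ℂ)
    set b₂ := classInner F (ψ₂ : T → ℂ)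
    have hrelc := congrArg (starRingEnd ℂ) hrel
    simp only [map_add, map_mul, map_natCast, map_zero] at hrelc
    have hrC : (r : ℂ) ≠ 0 := Nat.cast_ne_zero.2 hr.ne_zero
    replace hFn := congrArg (fun t : ℂ => t * (r : ℂ)) hFn
    simp only [inv_mul_cancel₀ hrC] at hFn
    have hE0 : H.index ≠ 0 := Subgroup.index_ne_zero_of_finite
    have hA : ∀ (b : ℂ) (k : ℕ), IsIntegral ℤ ((r : ℂ) * b) →
        ((r : ℂ) * b * conj ((r : ℂ) * b)) * (H.index : ℂ) = ((r * k ^ 2 : ℕ) : ℂ) →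
        ∃ A, H.index * A = r * k ^ 2 := by
      intro b k hb h
      obtain ⟨A, hA⟩ := nat_dvd_of_isIntegral hE0 (m := r * k ^ 2) (by
        rw [← h, mul_div_cancel_right₀ _ (Nat.cast_ne_zero.2 hE0)]
        exact hb.mul (isIntegral_conj hb))
      exact ⟨A, hA.symm⟩
    obtain ⟨A₁, hA₁⟩ := hA b₁ (m ψ₂) (hFi ψ₁).1 (by
      rw [map_mul, map_natCast, hidx]
      push_cast
      linear_combination ((m ψ₂ : ℂ) ^ 2 * r) * hFn +
        (r : ℂ) ^ 2 * ((m ψ₁ : ℂ) * conj b₁) * hrel - (r : ℂ) ^ 2 * ((m ψ₂ : ℂ) * b₂) * hrelc)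
    obtain ⟨A₂, hA₂⟩ := hA b₂ (m ψ₁) (hFi ψ₂).1 (by
      rw [map_mul, map_natCast, hidx]
      push_cast
      linear_combination ((m ψ₁ : ℂ) ^ 2 * r) * hFn +
        (r : ℂ) ^ 2 * ((m ψ₂ : ℂ) * conj b₂) * hrel - (r : ℂ) ^ 2 * ((m ψ₁ : ℂ) * b₁) * hrelc)
    have hAr : A₁ + A₂ = r := Nat.eq_of_mul_eq_mul_left (Nat.pos_of_ne_zero hE0) (by
      rw [mul_add, hA₁, hA₂, hidx]; ring)
    have hA10 : A₁ ≠ 0 := fun e => by simp [e, hr.ne_zero, hm2] at hA₁
    have hA20 : A₂ ≠ 0 := fun e => by simp [e, hr.ne_zero, hm1] at hA₂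
    have hcop : A₁.Coprime A₂ := by
      have h1 : A₁.Coprime r := (hr.coprime_iff_not_dvd.2 fun h => by
        have := Nat.le_of_dvd (Nat.pos_of_ne_zero hA10) h
        omega).symm
      rw [← hAr] at h1
      rwa [Nat.coprime_self_add_right] at h1
    have hsq : IsSquare (A₁ * A₂) := by
      have : IsSquare (A₁ * A₂ * H.index ^ 2) := ⟨r * m ψ₁ * m ψ₂, by
        linear_combination (H.index * A₂) * hA₁ + (r * m ψ₂ ^ 2) * hA₂⟩
      exact isSquare_of_mul_sq hE0 this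
    obtain ⟨e₁, h₁⟩ := isSquare_of_coprime_mul hcop hsq
    obtain ⟨e₂, h₂⟩ := isSquare_of_coprime_mul hcop.symm (mul_comm A₁ A₂ ▸ hsq)
    exact ⟨e₁, e₂, m ψ₂, hm2, by rw [← hAr, h₁, h₂]; ring, by rw [← hA₁, h₁]; ring⟩

end Cfsg.Agent.ThreeCharBlock
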