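import Cfsg.Agent.BlockChar.CentralQuotient
import Cfsg.Agent.Blocks.NormalDefect.Degrees
import Cfsg.Agent.BlockThms.Normal
import Cfsg.Agent.BlockThms.DefectGroup
import Cfsg.Agent.Char.FeitThompsonIneq
import Cfsg.Agent.ThreeCharBlock.TwoOver

/-!
# A block with abelian normal defect group over the centraliser
-/

set_option autoImplicit false

namespace Cfsg.Agent.ThreeCharBlock

open Cfsg.Agent Cfsg.Agent.Blocks Cfsg.Agent.Char
open scoped ComplexConjugate

universe u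

variable {p : ℕ} {M : Ideal Cfsg.AlgInt}

/-- A central p-subgroup and a block: every linear character of the subgroup is the central
character of a member of the block. -/
theorem exists_member_restrict {H : Type u} [Group H] [Finite H] (hM : Cfsg.IsPModular p M)
    {b : Set (Cfsg.IrrCharacter H)} (hb : Cfsg.IsPBlock M b) (Z : Subgroup H)
    (hZc : Z ≤ Subgroup.center H) (hZp : IsPGroup p Z) (l : Z →* ℂˣ) :
    ∃ ψ ∈ b, ∀ z : Z, ((ψ : Cfsg.IrrCharacter H) : H → ℂ) z = (l z : ℂ) * (ψ : H → ℂ) 1 := by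
  classical
  have := Fintype.ofFinite H
  have := Fintype.ofFinite Z
  have := Fact.mk hM.1
  set f : H → ℂ := fun h => ∑ ψ : Cfsg.IrrCharacter H,
    if ψ ∈ b then (ψ : H → ℂ) 1 * (ψ : H → ℂ) h else 0 with hf
  have hsum : ∑ z : Z, conj (l z : ℂ) * f z = f 1 := by
    rw [Finset.sum_eq_single (1 : Z)]
    · simp
    · intro z _ hz
      rw [hf]
      refine mul_eq_zero_of_right _ (BlockChar.sum_block_degree_mul_eq_zero hM hb fun hreg => hz ?_)
      obtain ⟨k, hk⟩ := IsPGroup.iff_orderOf.1 hZp z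
      rcases Nat.eq_zero_or_pos k with rfl | hk0
      · rwa [pow_zero, orderOf_eq_one_iff] at hk
      · exact absurd (show p ∣ orderOf (z : H) by
          rw [Subgroup.orderOf_coe, hk]; exact dvd_pow_self p hk0.ne') hreg
    · simp
  obtain ⟨ψ₀, hψ₀⟩ := IsPBlock.nonempty hM hb
  have hf1 : f 1 ≠ 0 := by
    have e : f 1 = ((∑ ψ : Cfsg.IrrCharacter H,
        if ψ ∈ b then Cfsg.charDegree (ψ : H → ℂ) ^ 2 else 0 : ℕ) : ℂ) := by
      rw [hf, Nat.cast_sum]
      refine Finset.sum_congr rfl fun ψ _ => ?_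
      split_ifs
      · rw [(CharArith.irr_degree_spec ψ).1]; push_cast; ring
      · simp
    rw [e, Nat.cast_ne_zero]
    intro h0
    have := (Finset.sum_eq_zero_iff.1 h0) ψ₀ (Finset.mem_univ _)
    rw [if_pos hψ₀, pow_eq_zero_iff two_ne_zero] at this
    exact (CharArith.irr_degree_spec ψ₀).2.ne' this
  rw [← hsum] at hf1
  simp only [hf, Finset.mul_sum] at hf1
  rw [Finset.sum_comm] at hf1
  obtain ⟨ψ, -, hψ⟩ := Finset.exists_ne_zero_of_sum_ne_zero hf1
  by_cases hb' : ψ ∈ b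
  swap
  · simp [hb'] at hψ
  simp only [if_pos hb'] at hψ
  refine ⟨ψ, hb', ?_⟩
  -- the central character
  choose a ha using fun z : Z => exists_scalar_of_center ψ.2 (hZc z.2)
  have hval : ∀ z : Z, (ψ : H → ℂ) z = a z * (ψ : H → ℂ) 1 := fun z => by
    have := (ha z).2 1
    rwa [mul_one] at this
  have h1 := IsIrr.one_ne_zero ψ.2
  have hamul : ∀ z w : Z, a (z * w) = a z * a w := fun z w => mul_right_cancel₀ h1 (by
    rw [← hval, Subgroup.coe_mul, (ha z).2, hval]; ring)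
  by_contra hne
  push Not at hne
  obtain ⟨z₀, hz₀⟩ := hne
  refine hψ ?_
  have hl0 : (l z₀ : ℂ) ≠ 0 := Units.ne_zero _
  have hc : conj (l z₀ : ℂ) = (l z₀ : ℂ)⁻¹ := by
    rw [← IsChar.inv_eq_conj (isCharacter_hom l) z₀, map_inv, Units.val_inv_eq_inv_val]
  set S := ∑ z : Z, conj (l z : ℂ) * ((ψ : H → ℂ) 1 * (ψ : H → ℂ) z) with hS
  have hmul : conj (l z₀ : ℂ) * a z₀ * S = S := by
    rw [hS, Finset.mul_sum]
    refine Fintype.sum_equiv (Equiv.mulLeft z₀) _ _ fun z => ?_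
    simp only [Equiv.coe_mulLeft, map_mul, Units.val_mul, hval, hamul]
    ring
  refine (mul_left_eq_self₀.1 hmul).resolve_left fun e => hz₀ ?_
  rw [hc, inv_mul_eq_iff_eq_mul₀ hl0, mul_one] at e
  rw [hval, e]

/-- A character of full p-valuation modulo a central p-subgroup is the only member of its block
that is trivial on that subgroup. -/
theorem eq_of_trivial {H : Type u} [Group H] [Finite H] (hM : Cfsg.IsPModular p M) (Z : Subgroup H)
    [Z.Normal] (hZc : Z ≤ Subgroup.center H) (hZp : IsPGroup p Z) {θ θ' : Cfsg.IrrCharacter H}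
    (htriv : ∀ z ∈ Z, (θ : H → ℂ) z = (θ : H → ℂ) 1)
    (hval : Z.index.factorization p ≤ (Cfsg.charDegree (θ : H → ℂ)).factorization p)
    (hsame : θ' ∈ Cfsg.blockOf M (θ : H → ℂ))
    (htriv' : ∀ z ∈ Z, (θ' : H → ℂ) z = (θ' : H → ℂ) 1) : θ' = θ := by
  obtain ⟨b', hb', hiff, hlift, -⟩ :=
    BlockChar.exists_quotient_block Z hM hZp hZc (isPBlock_blockOf (M := M) θ)
  obtain ⟨η, hη, rfl⟩ := hlift θ (mem_blockOf_self hM θ) htriv
  obtain ⟨η', hη', rfl⟩ := hlift θ' hsame htriv'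
  have hsing := NormalDefect.blockOf_eq_singleton_of_val hM η hval
  rw [IsPBlock.eq_blockOf hM hb' hη, hsing] at hη'
  rw [Set.mem_singleton_iff.1 hη']

variable {G : Type u} [Group G] [Fintype G]

local notation "CG[" Q "]" => Subgroup.centralizer (SetLike.coe Q)

/-- Characters over characters of the centraliser in one block lie in one block. -/
theorem sameBlock_over (hM : Cfsg.IsPModular p M) (D : Subgroup G) [D.Normal] (hDp : IsPGroup p D)
    [Fintype CG[D]] {χ χ' : Cfsg.IrrCharacter G} {θ ψ : Cfsg.IrrCharacter CG[D]}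
    (hθ : Cfsg.classInner (fun n : CG[D] => (χ : G → ℂ) n) (θ : CG[D] → ℂ) ≠ 0)
    (hψ : Cfsg.classInner (fun n : CG[D] => (χ' : G → ℂ) n) (ψ : CG[D] → ℂ) ≠ 0)
    (h : Cfsg.SameBlock M (θ : CG[D] → ℂ) (ψ : CG[D] → ℂ)) :
    Cfsg.SameBlock M (χ : G → ℂ) (χ' : G → ℂ) := by
  intro g
  by_cases hg : g ∈ CG[D]
  · rw [BlockThms.centralChar_eq_induced χ.2 θ.2 hθ hg,
      BlockThms.centralChar_eq_induced χ'.2 ψ.2 hψ hg, ← BlockThms.omega_classInd_res,
      ← BlockThms.omega_classInd_res]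
    exact memLocalIdeal_omega_sub hM θ.2 ψ.2
      (fun a b => isClassFunction_classInd g (a : G) (b : G))
      (fun a => DefectThms.memLocalRing_classInd hM g _) h
  · exact memLocalIdeal_sub hM (BlockThms.memLocalIdeal_centralChar_of_notMem D hM hDp χ hg)
      (BlockThms.memLocalIdeal_centralChar_of_notMem D hM hDp χ' hg)

/-- A constituent of a character trivial on an element of the normal subgroup is trivial there. -/
theorem constituent_trivial {N : Subgroup G} [Fintype N] {χ : Cfsg.IrrCharacter G}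
    {θ : Cfsg.IrrCharacter N} (hc : Cfsg.classInner (fun n : N => (χ : G → ℂ) n) (θ : N → ℂ) ≠ 0)
    {n : N} (hn : (χ : G → ℂ) n = (χ : G → ℂ) 1) : (θ : N → ℂ) n = (θ : N → ℂ) 1 :=
  IsChar.constituent_kernel (isCharacter_res N (IsIrr.isCharacter χ.2)) θ.2 hc (by simpa using hn)

/-- The character of the centraliser under the members of the block trivial on the defect
group. -/
theorem exists_base (hM : Cfsg.IsPModular p M) {B : Set (Cfsg.IrrCharacter G)}
    (hB : Cfsg.IsPBlock M B) {D : Subgroup G} [D.Normal] (hD : Cfsg.IsDefectGroup p M B D)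
    (hab : ∀ a ∈ D, ∀ b ∈ D, a * b = b * a) [Fintype CG[D]] :
    ∃ θ : Cfsg.IrrCharacter CG[D],
      (∀ x : CG[D], (x : G) ∈ D → (θ : CG[D] → ℂ) x = (θ : CG[D] → ℂ) 1) ∧
      ¬ p ∣ Subgroup.relIndex CG[D] (inertia (θ : CG[D] → ℂ)) ∧
      (∀ θ' ∈ Cfsg.blockOf M (θ : CG[D] → ℂ),
        (∀ x : CG[D], (x : G) ∈ D →
          ((θ' : Cfsg.IrrCharacter CG[D]) : CG[D] → ℂ) x = (θ' : CG[D] → ℂ) 1) → θ' = θ) ∧
      (∀ χ : Cfsg.IrrCharacter G,
        (χ ∈ B ∧ ∀ d ∈ D, (χ : G → ℂ) d = (χ : G → ℂ) 1) ↔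
          Cfsg.classInner (fun n : CG[D] => (χ : G → ℂ) n) (θ : CG[D] → ℂ) ≠ 0) ∧
      ∀ χ : Cfsg.IrrCharacter G, ∀ ψ ∈ Cfsg.blockOf M (θ : CG[D] → ℂ),
        Cfsg.classInner (fun n : CG[D] => (χ : G → ℂ) n)
          ((ψ : Cfsg.IrrCharacter CG[D]) : CG[D] → ℂ) ≠ 0 → χ ∈ B := by
  classical
  have := Fact.mk hM.1
  have hDp : IsPGroup p D := DefectThms.isPGroup_of_isDefectGroup hD
  obtain ⟨χ₀, hχ₀, hχ₀t⟩ := BlockThms.exists_mem_trivial_on D hM hDp hB
  obtain ⟨θ, hθ⟩ := exists_constituent_res (N := CG[D]) χ₀.2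
  have hθt : ∀ x : CG[D], (x : G) ∈ D → (θ : CG[D] → ℂ) x = (θ : CG[D] → ℂ) 1 :=
    fun x hx => constituent_trivial hθ (hχ₀t x hx)
  have hinB : ∀ χ : Cfsg.IrrCharacter G, ∀ ψ ∈ Cfsg.blockOf M (θ : CG[D] → ℂ),
      Cfsg.classInner (fun n : CG[D] => (χ : G → ℂ) n)
        ((ψ : Cfsg.IrrCharacter CG[D]) : CG[D] → ℂ) ≠ 0 → χ ∈ B := fun χ ψ hψ hc =>
    IsPBlock.mem_of_sameBlock hM hB hχ₀ (sameBlock_over hM D hDp hθ hc (mem_blockOf.1 hψ))
  have hover : ∀ χ : Cfsg.IrrCharacter G,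
      Cfsg.classInner (fun n : CG[D] => (χ : G → ℂ) n) (θ : CG[D] → ℂ) ≠ 0 →
        χ ∈ B ∧ ∀ d ∈ D, (χ : G → ℂ) d = (χ : G → ℂ) 1 := by
    intro χ hc
    refine ⟨hinB χ θ (mem_blockOf_self hM θ) hc, fun d hd => ?_⟩
    have hdC : d ∈ CG[D] := Subgroup.mem_centralizer_iff.2 fun h hh => hab h hh d hd
    have hcl := clifford χ.2 θ.2 hc
    have h1 := congrFun hcl ⟨d, hdC⟩
    have h2 := congrFun hcl 1
    simp only [Pi.smul_apply, Finset.sum_apply, smul_eq_mul, OneMemClass.coe_one] at h1 h2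
    refine h1.trans (Eq.trans ?_ h2.symm)
    refine congrArg _ (Finset.sum_congr rfl fun ψ hψ => ?_)
    obtain ⟨g, rfl⟩ := mem_orbit.1 hψ
    rw [conjFun_apply_one, conjFun_apply]
    exact hθt _ (Subgroup.Normal.conj_mem inferInstance d hd g)
  -- valuations
  obtain ⟨m, hm, hsum⟩ := exists_mult_sum_sq (G := G) θ.2
  set T := inertia (θ : CG[D] → ℂ) with hT
  set Z := D.subgroupOf CG[D] with hZ
  have : Z.Normal := Subgroup.normal_subgroupOf
  have hZab : ∀ a ∈ Z, ∀ b ∈ Z, a * b = b * a :=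
    fun a ha b hb => Subtype.ext (hab _ ha _ hb)
  have hθdvd : Cfsg.charDegree (θ : CG[D] → ℂ) ∣ Z.index :=
    NormalDefect.charDegree_dvd_index Z hZab θ
  have hDC : D ≤ CG[D] := fun d hd =>
    Subgroup.mem_centralizer_iff.2 fun h hh => hab h hh d hd
  have hCT : CG[D] ≤ T := le_inertia (isClassFunction_of_isIrr θ.2)
  set e := Subgroup.relIndex CG[D] T with he
  have hidx : D.index = T.index * e * Z.index := by
    rw [hZ, show (D.subgroupOf CG[D]).index = D.relIndex CG[D] from rfl,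
      ← Subgroup.relIndex_mul_index (hDC.trans hCT),
      ← Subgroup.relIndex_mul_relIndex _ _ _ hDC hCT, he]
    ring
  have he0 : e ≠ 0 := fun h => Subgroup.index_ne_zero_of_finite (H := D) (by simp [hidx, h])
  set va := fun x : ℕ => x.factorization p
  have hvθ : va (Cfsg.charDegree (θ : CG[D] → ℂ)) ≤ va Z.index :=
    (Nat.factorization_le_iff_dvd (CharArith.irr_degree_spec θ).2.ne'
      Subgroup.index_ne_zero_of_finite).2 hθdvd p
  have hTi : T.index ≠ 0 := Subgroup.index_ne_zero_of_finite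
  have hvm : ∀ χ, m χ ≠ 0 →
      va (m χ) + va (Cfsg.charDegree (θ : CG[D] → ℂ)) = va e + va Z.index := by
    intro χ hχ
    have hc : Cfsg.classInner (fun n : CG[D] => (χ : G → ℂ) n) (θ : CG[D] → ℂ) ≠ 0 := by
      rw [hm]; exact Nat.cast_ne_zero.2 hχ
    have hdeg : Cfsg.charDegree (χ : G → ℂ) =
        m χ * T.index * Cfsg.charDegree (θ : CG[D] → ℂ) := by
      have h := degree_eq_of_clifford χ.2 θ.2 hc
      rw [hm, (CharArith.irr_degree_spec χ).1, (CharArith.irr_degree_spec θ).1] at h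
      exact_mod_cast h
    have h1 := BlockChar.minVal_le (p := p) (hover χ hc).1
    rw [NormalDefect.minVal_eq_index hM hB hD] at h1
    have h2 := (Nat.factorization_le_iff_dvd (CharArith.irr_degree_spec χ).2.ne'
      Subgroup.index_ne_zero_of_finite).2 (NormalDefect.charDegree_dvd_index D hab χ) p
    have hθ0 := (CharArith.irr_degree_spec θ).2.ne'
    simp only [va]
    rw [hdeg, Nat.factorization_mul (mul_ne_zero hχ hTi) hθ0, Nat.factorization_mul hχ hTi, hidx,
      Nat.factorization_mul (mul_ne_zero hTi he0) Subgroup.index_ne_zero_of_finite,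
      Nat.factorization_mul hTi he0] at h1 h2
    simp only [Finsupp.add_apply] at h1 h2
    omega
  have hpe : ¬ p ∣ e := by
    intro hd
    have hpos : 0 < va e := hM.1.factorization_pos_of_dvd he0 hd
    have hall : p ^ (2 * va e) ∣ e := by
      refine dvd_trans (Finset.dvd_sum fun χ _ => ?_) (dvd_of_eq hsum)
      by_cases hχ : m χ = 0
      · simp [hχ]
      · rw [mul_comm, pow_mul]
        refine pow_dvd_pow_of_dvd ((hM.1.pow_dvd_iff_le_factorization hχ).2 ?_) 2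
        have := hvm χ hχ
        simp only [va] at this hvθ ⊢
        omega
    have := (hM.1.pow_dvd_iff_le_factorization he0).1 hall
    simp only [va] at hpos this
    omega
  have hval : va Z.index ≤ va (Cfsg.charDegree (θ : CG[D] → ℂ)) := by
    obtain ⟨χ, hχ⟩ : ∃ χ, ¬ p ∣ m χ ^ 2 := by
      by_contra! h
      exact hpe (hsum ▸ Finset.dvd_sum fun χ _ => h χ)
    have hχ' : ¬ p ∣ m χ := fun h => hχ (dvd_pow h two_ne_zero)
    have hχ0 : m χ ≠ 0 := fun h => hχ' (h ▸ dvd_zero p)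
    have := hvm χ hχ0
    simp only [va, Nat.factorization_eq_zero_of_not_dvd hχ'] at this hvθ ⊢
    omega
  have hZc : Z ≤ Subgroup.center CG[D] := fun z hz => Subgroup.mem_center_iff.2 fun g =>
    Subtype.ext (Subgroup.mem_centralizer_iff.1 g.2 _ hz).symm
  have hZp : IsPGroup p Z := hDp.comap_subtype
  have huniq : ∀ θ' ∈ Cfsg.blockOf M (θ : CG[D] → ℂ),
      (∀ x : CG[D], (x : G) ∈ D →
        ((θ' : Cfsg.IrrCharacter CG[D]) : CG[D] → ℂ) x = (θ' : CG[D] → ℂ) 1) → θ' = θ :=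
    fun θ' h ht => eq_of_trivial hM Z hZc hZp (fun z hz => hθt z hz) hval h fun z hz => ht z hz
  refine ⟨θ, hθt, hpe, huniq, fun χ => ⟨fun ⟨hχ, hχt⟩ => ?_, hover χ⟩, hinB⟩
  obtain ⟨ψ, hψ⟩ := exists_constituent_res (N := CG[D]) χ.2
  obtain ⟨g, θ', hθ', hval'⟩ := BlockThms.covering_orbit hM hB (isPBlock_blockOf θ) hχ₀
    (mem_blockOf_self hM θ) hθ hχ hψ
  have hψ' : (ψ : CG[D] → ℂ) = conjFun g (θ' : CG[D] → ℂ) := funext hval'
  obtain rfl : θ' = θ := huniq θ' hθ' fun x hx => by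
    have h1 : (θ' : CG[D] → ℂ) = conjFun g⁻¹ (ψ : CG[D] → ℂ) := by
      rw [hψ', conjFun_inv_cancel]
    rw [h1, conjFun_apply_one, conjFun_apply]
    exact constituent_trivial hψ (hχt _ (Subgroup.Normal.conj_mem inferInstance _ hx _))
  rw [← classInner_conjFun g, conjFun_res g (isClassFunction_of_isIrr χ.2), ← hψ']
  exact hψ

end Cfsg.Agent.ThreeCharBlock
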