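import Cfsg.Agent.ThreeCharBlock.Transitive

/-!
# The bound for groups of automorphisms of an elementary abelian group
-/

set_option autoImplicit false

namespace Cfsg.Agent.ThreeCharBlock

universe u

/-- The bound of `card_le_three` for additive automorphisms of a group of exponent p. -/
theorem card_le_three_add {A : Type u} [AddCommGroup A] [Finite A] [Nontrivial A] {p : ℕ}
    [Fact p.Prime] [Module (ZMod p) A] {E : Type u} [Group E] [Finite E]
    (σ : E → A →+ A) (h1 : ∀ a, σ 1 a = a) (hm : ∀ g h a, σ (g * h) a = σ g (σ h a))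
    (hσ : ∀ g h : E, (∀ a, σ g a = σ h a) → g = h) (hp' : ¬ p ∣ Nat.card E)
    (htrans : ∀ v w : A, v ≠ 0 → w ≠ 0 → ∃ g, σ g v = w)
    (hsum : ∃ a b, Nat.card E = a ^ 2 + b ^ 2)
    (hsq : IsSquare ((Nat.card A - 1) * Nat.card E))
    (hone : ∀ y z : E, y ≠ 1 → z ≠ 1 → IsCyclic (Subgroup.centralizer ({y} : Set E)) →
      IsCyclic (Subgroup.centralizer ({z} : Set E)) → IsConj y z)
    (hprime : ∀ (y : E) (r : ℕ), y ≠ 1 → r.Prime →
      Nat.card (Subgroup.centralizer ({y} : Set E)) = r →
      IsSquare ((Nat.card A - 1) * r) ∧ r % 4 ≠ 3) :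
    Nat.card A ≤ 3 := by
  let ρ : E →* Module.End (ZMod p) A :=
    { toFun := fun g => (σ g).toZModLinearMap p
      map_one' := LinearMap.ext fun a => h1 a
      map_mul' := fun g h => LinearMap.ext fun a => hm g h a }
  exact card_le_three ρ (fun g h e => hσ g h fun a =>
      congrArg (fun f : Module.End (ZMod p) A => f a) e)
    hp' htrans hsum hsq hone hprime

/-- The bound of `card_le_three`, written multiplicatively. -/
theorem card_le_three_mul {L : Type u} [CommGroup L] [Finite L] [Nontrivial L] {p : ℕ}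
    [Fact p.Prime] (hexp : ∀ l : L, l ^ p = 1) {E : Type u} [Group E] [Finite E]
    (σ : E →* MulAut L) (hσ : Function.Injective σ) (hp' : ¬ p ∣ Nat.card E)
    (htrans : ∀ v w : L, v ≠ 1 → w ≠ 1 → ∃ g, σ g v = w)
    (hsum : ∃ a b, Nat.card E = a ^ 2 + b ^ 2)
    (hsq : IsSquare ((Nat.card L - 1) * Nat.card E))
    (hone : ∀ y z : E, y ≠ 1 → z ≠ 1 → IsCyclic (Subgroup.centralizer ({y} : Set E)) →
      IsCyclic (Subgroup.centralizer ({z} : Set E)) → IsConj y z)
    (hprime : ∀ (y : E) (r : ℕ), y ≠ 1 → r.Prime →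
      Nat.card (Subgroup.centralizer ({y} : Set E)) = r →
      IsSquare ((Nat.card L - 1) * r) ∧ r % 4 ≠ 3) :
    Nat.card L ≤ 3 :=
  @card_le_three_add (Additive L) _ _ _ p _
    (AddCommGroup.zmodModule (G := Additive L) fun a => hexp (Additive.toMul a)) E _ _
    (fun g => (σ g).toMonoidHom.toAdditive)
    (fun a => congrArg Additive.ofMul (DFunLike.congr_fun (map_one σ) (Additive.toMul a)))
    (fun g h a => congrArg Additive.ofMul (DFunLike.congr_fun (map_mul σ g h) (Additive.toMul a)))
    (fun g h e => hσ (MulEquiv.ext fun l => e (Additive.ofMul l)))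
    hp' (fun v w hv hw => htrans v w hv hw) hsum hsq hone hprime

end Cfsg.Agent.ThreeCharBlock
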