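import Cfsg.Agent.BlockChar.CentralQuotient
import Cfsg.Agent.BlockChar.RankOne
import Cfsg.Agent.Char.Zero
import Cfsg.Agent.Coprime.Basic

/-!
# The rank of a block with one character trivial on an abelian normal p-subgroup
-/

set_option autoImplicit false

namespace Cfsg.Agent.ThreeCharBlock

open Cfsg.Agent Cfsg.Agent.Blocks Cfsg.Agent.Char
open scoped ComplexConjugate Pointwise

universe u

variable {G : Type u} [Group G] [Fintype G] {p : ℕ} {M : Ideal Cfsg.AlgInt}

/-- Regular elements with one image modulo an abelian normal p-subgroup are conjugate. -/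
theorem isConj_of_regular_mk [hp : Fact p.Prime] (D : Subgroup G) [D.Normal] (hDp : IsPGroup p D)
    (hab : ∀ a ∈ D, ∀ b ∈ D, a * b = b * a) {v w : G} (hv : ¬ p ∣ orderOf v)
    (hw : ¬ p ∣ orderOf w) (h : (v : G ⧸ D) = w) : IsConj v w := by
  obtain ⟨k, hk⟩ := IsPGroup.iff_card.1 hDp
  have hone : ∀ x : G, ¬ p ∣ orderOf x → ∀ y, y ∈ Subgroup.zpowers x → y ∈ D → y = 1 := by
    intro x hx y hy hyD
    obtain ⟨i, hi⟩ := IsPGroup.iff_orderOf.1 hDp ⟨y, hyD⟩
    rw [Subgroup.orderOf_mk] at hi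
    rcases Nat.eq_zero_or_pos i with rfl | hi0
    · rwa [pow_zero, orderOf_eq_one_iff] at hi
    · exact absurd (((dvd_pow_self p hi0.ne').trans (dvd_of_eq hi.symm)).trans
        (orderOf_dvd_of_mem_zpowers hy)) hx
  have hord : ∀ x : G, ¬ p ∣ orderOf x → orderOf (x : G ⧸ D) = orderOf x := fun x hx =>
    Nat.dvd_antisymm (orderOf_map_dvd (QuotientGroup.mk' D) x) (orderOf_dvd_of_pow_eq_one
      (hone x hx _ (Subgroup.npow_mem_zpowers x _) ((QuotientGroup.eq_one_iff _).1 (by
        rw [QuotientGroup.mk_pow, pow_orderOf_eq_one]))))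
  have hcard : Nat.card (Subgroup.zpowers w) = Nat.card (Subgroup.zpowers v) := by
    rw [Nat.card_zpowers, Nat.card_zpowers, ← hord w hw, ← hord v hv, h]
  obtain ⟨c, hc, he⟩ := Coprime.exists_conj_eq (A := Subgroup.zpowers v) (K := D)
    (B := Subgroup.zpowers w) (by rw [Subgroup.normalizer_eq_top]; exact le_top)
    (by rw [Nat.card_zpowers, hk]; exact (hp.out.coprime_iff_not_dvd.2 hv).symm.pow_right k)
    (Or.inr (Group.isSolvable_of_comm fun a b => Subtype.ext (hab a a.2 b b.2)))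
    (Subgroup.zpowers_le.2 (by
      have hm : w * v⁻¹ ∈ D := (QuotientGroup.eq_one_iff _).1 (by
        rw [QuotientGroup.mk_mul, QuotientGroup.mk_inv, h, mul_inv_cancel])
      simpa using Subgroup.mul_mem_sup hm (Subgroup.mem_zpowers v)))
    hcard
  have hmem : c * w * c⁻¹ ∈ Subgroup.zpowers v := by
    rw [← he]
    exact ⟨w, Subgroup.mem_zpowers w, rfl⟩
  refine (isConj_iff.2 ⟨c, ?_⟩).symm
  refine eq_of_mul_inv_eq_one
    (hone v hv _ (Subgroup.mul_mem _ hmem (Subgroup.inv_mem _ (Subgroup.mem_zpowers v))) ?_)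
  refine (QuotientGroup.eq_one_iff _).1 ?_
  rw [QuotientGroup.mk_mul, QuotientGroup.mk_mul, QuotientGroup.mk_mul, QuotientGroup.mk_inv,
    QuotientGroup.mk_inv, (QuotientGroup.eq_one_iff c).2 hc, h]
  group

/-- If only one member of a block is trivial on an abelian normal p-subgroup then the block has
rank at most one. -/
theorem blockRank_le_one (hM : Cfsg.IsPModular p M) {B : Set (Cfsg.IrrCharacter G)}
    (hB : Cfsg.IsPBlock M B) (D : Subgroup G) [D.Normal] (hDp : IsPGroup p D)
    (hab : ∀ a ∈ D, ∀ b ∈ D, a * b = b * a) {χ₀ : Cfsg.IrrCharacter G}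
    (hone : ∀ χ ∈ B, (∀ d ∈ D, ((χ : Cfsg.IrrCharacter G) : G → ℂ) d = (χ : G → ℂ) 1) →
      χ = χ₀) : Cfsg.blockRank p B ≤ 1 := by
  classical
  have := Fact.mk hM.1
  have := Fintype.ofFinite D
  set x₀ := Cfsg.pRegularPart p (χ₀ : G → ℂ)
  have hmain : ∀ φ ∈ B, ∃ c : ℂ,
      Cfsg.pRegularPart p ((φ : Cfsg.IrrCharacter G) : G → ℂ) = c • x₀ := by
    intro φ hφ
    set θ : G → ℂ := fun g => (φ : G → ℂ) (pPrimePartOf p g) with hθ
    have hgen := BlockChar.isGeneralized_primePart hM.1 (p := p) (IsIrr.isCharacter φ.2)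
    have hmk : ∀ g : G, ((pPrimePartOf p g : G) : G ⧸ D) = pPrimePartOf p (g : G ⧸ D) := by
      intro g
      obtain ⟨k, hk⟩ := orderOf_pPartOf hM.1 g
      obtain ⟨j, -, hj⟩ := (Nat.dvd_prime_pow hM.1).1
        (hk ▸ orderOf_map_dvd (QuotientGroup.mk' D) (pPartOf p g))
      have h1 := (parts_mul hM.1
        ((commute_pPartOf_pPrimePartOf (p := p) g).map (QuotientGroup.mk' D)) ⟨j, hj⟩
        (BlockChar.isPRegular_mk D (not_dvd_orderOf_pPrimePartOf hM.1 g))).2
      simp only [QuotientGroup.mk'_apply] at h1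
      rw [← QuotientGroup.mk_mul, pPartOf_mul_pPrimePartOf hM.1] at h1
      exact h1.symm
    have hinv : ∀ n ∈ D, ∀ g : G, θ (n * g) = θ g := fun n hn g =>
      classFun_isConj (isClassFunction_of_isIrr φ.2)
        (isConj_of_regular_mk D hDp hab (not_dvd_orderOf_pPrimePartOf hM.1 _)
          (not_dvd_orderOf_pPrimePartOf hM.1 _)
          (by rw [hmk, hmk, QuotientGroup.mk_mul, (QuotientGroup.eq_one_iff n).2 hn, one_mul]))
    obtain ⟨m, hm, hexp, -⟩ := IsGen.exists_mult hgen
    have htriv : ∀ η : Cfsg.IrrCharacter G, m η ≠ 0 →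
        ∀ d ∈ D, (η : G → ℂ) d = (η : G → ℂ) 1 := by
      intro η hη
      refine (BlockThms.triv_constituent_iff η.2).1 fun h0 => hη ?_
      set a : G → ℂ := fun g => (Nat.card D : ℂ)⁻¹ * ∑ n : D, (η : G → ℂ) ((n : G) * g)
      have ha : Cfsg.IsCharacter G a := isCharacter_avg D (IsIrr.isCharacter η.2)
      have ha0 : a = 0 := (IsChar.eq_zero_iff ha).2 (by
        rw [← h0]
        simp [a, Cfsg.classInner])
      have key : ∑ g, θ g * conj (a g) = ∑ g, θ g * conj ((η : G → ℂ) g) := by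
        have h1 : ∀ g, θ g * conj (a g) =
            (Nat.card D : ℂ)⁻¹ * ∑ n : D, θ g * conj ((η : G → ℂ) ((n : G) * g)) := fun g => by
          simp only [a, map_mul, map_inv₀, map_natCast, map_sum, ← Finset.mul_sum]
          ring
        rw [Finset.sum_congr rfl fun g _ => h1 g, ← Finset.mul_sum, Finset.sum_comm]
        have h2 : ∀ n : D, ∑ g, θ g * conj ((η : G → ℂ) ((n : G) * g)) =
            ∑ g, θ g * conj ((η : G → ℂ) g) := fun n =>
          Fintype.sum_equiv (Equiv.mulLeft (n : G)) _ _ fun g => by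
            rw [Equiv.coe_mulLeft, hinv _ n.2]
        rw [Finset.sum_congr rfl fun n _ => h2 n, Finset.sum_const, Finset.card_univ, nsmul_eq_mul,
          ← Nat.card_eq_fintype_card, inv_mul_cancel_left₀ (card_ne_zero (G := D))]
      have hz : Cfsg.classInner θ (η : G → ℂ) = 0 := by
        rw [Cfsg.classInner, ← key, ha0]
        simp
      have := (hm η).symm.trans hz
      exact_mod_cast this
    have hφreg : Cfsg.pRegularPart p (φ : G → ℂ) =
        ∑ η : Cfsg.IrrCharacter G, (m η : ℂ) • Cfsg.pRegularPart p (η : G → ℂ) := by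
      funext x
      simp only [Finset.sum_apply, Pi.smul_apply, smul_eq_mul, pRegularPart_apply]
      by_cases hx : p ∣ orderOf x
      · simp [hx]
      · simp only [if_neg hx]
        have h := (parts_mul hM.1 (Commute.one_left x) ⟨0, by simp⟩ hx).2
        rw [one_mul] at h
        rw [show (φ : G → ℂ) x = θ x from congrArg (φ : G → ℂ) h.symm]
        exact (congrFun hexp x).trans (by simp)
    have hother : ∀ η : Cfsg.IrrCharacter G, η ∉ B → ∀ ψ ∈ B,
        Cfsg.classInner (Cfsg.pRegularPart p (η : G → ℂ))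
          ((ψ : Cfsg.IrrCharacter G) : G → ℂ) = 0 := fun η hη ψ hψ =>
      classInner_pRegularPart_eq_zero hM (isPBlock_blockOf η) (mem_blockOf_self hM η)
        fun h => hη (IsPBlock.mem_of_sameBlock hM hB hψ (sameBlock_symm (mem_blockOf.1 h)))
    by_cases hχ₀ : χ₀ ∈ B
    · refine ⟨m χ₀, ?_⟩
      rw [pRegularPart_eq_sum hM hB hφ,
        show x₀ = _ from pRegularPart_eq_sum hM hB hχ₀, Finset.smul_sum]
      refine Finset.sum_congr rfl fun ψ _ => ?_
      by_cases hψ : ψ ∈ B
      swap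
      · simp [hψ]
      rw [if_pos hψ, if_pos hψ, smul_smul, hφreg, classInner_sum_left, Finset.sum_eq_single χ₀,
        classInner_smul_left]
      · intro η _ hne
        rw [classInner_smul_left]
        by_cases hη : η ∈ B
        · have : m η = 0 := by
            by_contra h
            exact hne (hone η hη (htriv η h))
          rw [this, Int.cast_zero, zero_mul]
        · rw [hother η hη ψ hψ, mul_zero]
      · exact fun h => absurd (Finset.mem_univ _) h
    · exfalso
      obtain ⟨χ, hχ, hχt⟩ := BlockThms.exists_mem_trivial_on D hM hDp hB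
      exact hχ₀ (hone χ hχ hχt ▸ hχ)
  rw [Cfsg.blockRank]
  refine le_trans (Submodule.finrank_mono (t := Submodule.span ℂ {x₀}) ?_)
    ((finrank_span_le_card ({x₀} : Set (G → ℂ))).trans (by simp))
  rw [Submodule.span_le]
  rintro _ ⟨φ, hφ, rfl⟩
  obtain ⟨c, hc⟩ := hmain φ hφ
  exact Submodule.mem_span_singleton.2 ⟨c, hc.symm⟩

end Cfsg.Agent.ThreeCharBlock
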