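import Cfsg.Agent.ThreeCharBlock.Cover
import Cfsg.Agent.ThreeCharBlock.Rank
import Cfsg.Agent.ThreeCharBlock.TwoOver
import Cfsg.Agent.ThreeCharBlock.MulTransitive
import Cfsg.Agent.BlockChar.RankOneFew
import Cfsg.Agent.ProjExt.CliffordCorr

/-!
# A block with abelian normal defect group and at most three characters
-/

set_option autoImplicit false

namespace Cfsg.Agent.ThreeCharBlock

open Cfsg.Agent Cfsg.Agent.Blocks Cfsg.Agent.Char
open scoped ComplexConjugate

universe u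

variable {G : Type u} [Group G] [Fintype G] {p : ℕ} {M : Ideal Cfsg.AlgInt}

local notation "CG[" Q "]" => Subgroup.centralizer (SetLike.coe Q)

/-- The characters of the inertia subgroup over an invariant character are no more than the
characters of the group over it. -/
theorem card_over_inertia {N : Subgroup G} [N.Normal] [Fintype N] {θ : N → ℂ}
    (hθ : IsIrrCharacter N θ) [Fintype (inertia θ)]
    [Fintype (N.subgroupOf (inertia θ))] :
    Nat.card {ψ : IrrCharacter (inertia θ) //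
      classInner (fun n : N.subgroupOf (inertia θ) => (ψ : inertia θ → ℂ) n)
        (fun x => θ ⟨((x : inertia θ) : G), Subgroup.mem_subgroupOf.1 x.2⟩) ≠ 0} ≤
    Nat.card {χ : IrrCharacter G // classInner (fun n : N => (χ : G → ℂ) n) θ ≠ 0} := by
  classical
  have hle : N ≤ inertia θ := le_inertia (isClassFunction_of_isIrr hθ)
  have hover : ∀ ψ : IrrCharacter (inertia θ),
      classInner (fun n : N.subgroupOf (inertia θ) => (ψ : inertia θ → ℂ) n)
        (fun x => θ ⟨((x : inertia θ) : G), Subgroup.mem_subgroupOf.1 x.2⟩) ≠ 0 →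
      classInner (fun n : N => (ψ : inertia θ → ℂ) ⟨n, hle n.2⟩) θ ≠ 0 := fun ψ h e => h (by
    rw [← e, ← ProjExt.classInner_subgroupOf N (inertia θ) hle])
  have hirr : ∀ (ψ : IrrCharacter (inertia θ)),
      classInner (fun n : N => (ψ : inertia θ → ℂ) ⟨n, hle n.2⟩) θ ≠ 0 →
      IsIrrCharacter G (indFun (inertia θ) (ψ : inertia θ → ℂ)) := fun ψ h =>
    ProjExt.exists_induced hθ rfl hle ψ.2 h
  refine Nat.card_le_card_of_injective (fun ψ =>
    ⟨⟨_, hirr ψ.1 (hover _ ψ.2)⟩, ?_⟩) fun ψ ψ' he => Subtype.ext (Subtype.ext ?_)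
  · have h1 : classInner (fun t : inertia θ => indFun (inertia θ) (ψ.1 : inertia θ → ℂ) t)
        (ψ.1 : inertia θ → ℂ) ≠ 0 := by
      have h := classInner_indFun_left (inertia θ) (ψ.1 : inertia θ → ℂ)
        (isClassFunction_of_isIrr (hirr ψ.1 (hover _ ψ.2)))
      rw [classInner_irr_self (hirr ψ.1 (hover _ ψ.2)), ← classInner_conj_symm] at h
      intro h0
      rw [h0, map_zero] at h
      exact one_ne_zero h
    have h2 := (ProjExt.clifford_core hθ rfl hle (hirr ψ.1 (hover _ ψ.2)) ψ.1.2 h1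
      (hover _ ψ.2)).2
    exact h2 ▸ hover _ ψ.2
  · exact ProjExt.indFun_injective hθ rfl hle ψ.1.2 ψ'.1.2 (hover _ ψ.2) (hover _ ψ'.2)
      (congrArg (fun z => ((z.1 : IrrCharacter G) : G → ℂ)) he)

/-- The degrees of the members trivial on the defect group against all degrees. -/
theorem card_mul_sum_trivial (hM : Cfsg.IsPModular p M) {B : Set (Cfsg.IrrCharacter G)}
    (hB : Cfsg.IsPBlock M B) (D : Subgroup G) [D.Normal] (hDp : IsPGroup p D) :
    (Nat.card D) * ∑ χ : Cfsg.IrrCharacter G,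
        (open scoped Classical in
          if χ ∈ B ∧ ∀ d ∈ D, (χ : G → ℂ) d = (χ : G → ℂ) 1 then
            Cfsg.charDegree (χ : G → ℂ) ^ 2 else 0) =
      ∑ χ : Cfsg.IrrCharacter G,
        (open scoped Classical in if χ ∈ B then Cfsg.charDegree (χ : G → ℂ) ^ 2 else 0) := by
  classical
  have := Fact.mk hM.1
  have := Fintype.ofFinite D
  have hcast : ((Nat.card D * ∑ χ : Cfsg.IrrCharacter G,
      if χ ∈ B ∧ ∀ d ∈ D, (χ : G → ℂ) d = (χ : G → ℂ) 1 then
        Cfsg.charDegree (χ : G → ℂ) ^ 2 else 0 : ℕ) : ℂ) =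
      ∑ d : D, ∑ χ : Cfsg.IrrCharacter G,
        (if χ ∈ B then (χ : G → ℂ) 1 * (χ : G → ℂ) d else 0) := by
    rw [Finset.sum_comm, Nat.cast_mul, Nat.cast_sum, Finset.mul_sum]
    refine Finset.sum_congr rfl fun χ _ => ?_
    by_cases hχ : χ ∈ B
    swap
    · rw [if_neg fun h => hχ h.1]
      simp [hχ]
    simp only [hχ, true_and, if_true, ← Finset.mul_sum]
    by_cases ht : ∀ d ∈ D, (χ : G → ℂ) d = (χ : G → ℂ) 1
    · rw [if_pos ht, Finset.sum_congr rfl fun (d : D) _ => ht d d.2, Finset.sum_const,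
        Finset.card_univ, nsmul_eq_mul, ← Nat.card_eq_fintype_card,
        (CharArith.irr_degree_spec χ).1]
      push_cast
      ring
    · rw [if_neg ht, Nat.cast_zero, mul_zero]
      have h0 : Cfsg.classInner (fun n : D => (χ : G → ℂ) n) (fun _ => 1) = 0 :=
        Classical.not_not.1 (mt (BlockThms.triv_constituent_iff χ.2).1 ht)
      rw [Cfsg.classInner, mul_eq_zero, inv_eq_zero] at h0
      have := h0.resolve_left card_ne_zero
      simp only [map_one, mul_one] at this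
      rw [this, mul_zero]
  have hone : ∑ d : D, ∑ χ : Cfsg.IrrCharacter G,
      (if χ ∈ B then (χ : G → ℂ) 1 * (χ : G → ℂ) d else 0) =
      ∑ χ : Cfsg.IrrCharacter G, (if χ ∈ B then (χ : G → ℂ) 1 * (χ : G → ℂ) 1 else 0) := by
    rw [Finset.sum_eq_single (1 : D)]
    · rfl
    · intro d _ hd
      refine BlockChar.sum_block_degree_mul_eq_zero hM hB fun hreg => hd ?_
      obtain ⟨k, hk⟩ := IsPGroup.iff_orderOf.1 hDp d
      rcases Nat.eq_zero_or_pos k with rfl | hk0
      · rwa [pow_zero, orderOf_eq_one_iff] at hk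
      · exact absurd (show p ∣ orderOf (d : G) by
          rw [Subgroup.orderOf_coe, hk]; exact dvd_pow_self p hk0.ne') hreg
    · simp
  rw [hone] at hcast
  have h2 : (∑ χ : Cfsg.IrrCharacter G,
      (if χ ∈ B then (χ : G → ℂ) 1 * (χ : G → ℂ) 1 else 0)) =
      ((∑ χ : Cfsg.IrrCharacter G,
        if χ ∈ B then Cfsg.charDegree (χ : G → ℂ) ^ 2 else 0 : ℕ) : ℂ) := by
    rw [Nat.cast_sum]
    refine Finset.sum_congr rfl fun χ _ => ?_
    split_ifs
    · rw [(CharArith.irr_degree_spec χ).1]; push_cast; ring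
    · simp
  rw [h2] at hcast
  exact Nat.cast_injective hcast

/-- An abelian normal defect group of a block with at most three characters has at most three
elements. -/
theorem card_le_three_of_normal (hM : Cfsg.IsPModular p M) {B : Set (Cfsg.IrrCharacter G)}
    (hB : Cfsg.IsPBlock M B) {D : Subgroup G} [D.Normal] (hD : Cfsg.IsDefectGroup p M B D)
    (hab : ∀ a ∈ D, ∀ b ∈ D, a * b = b * a) (hk : Nat.card B ≤ 3) : Nat.card D ≤ 3 := by
  classical
  have := Fact.mk hM.1
  by_contra hq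
  have hDp : IsPGroup p D := DefectThms.isPGroup_of_isDefectGroup hD
  have := Fintype.ofFinite CG[D]
  obtain ⟨θ, hθt, hpe, huniq, hiff, hinB⟩ := exists_base hM hB hD hab
  letI : CommGroup D :=
    { (inferInstance : Group D) with mul_comm := fun a b => Subtype.ext (hab a a.2 b b.2) }
  obtain ⟨eqv⟩ := CommGroup.monoidHom_mulEquiv_of_hasEnoughRootsOfUnity D ℂ
  have : Finite (D →* ℂˣ) := Finite.of_equiv _ eqv.symm.toEquiv
  have hcardΛ : Nat.card (D →* ℂˣ) = Nat.card D := Nat.card_congr eqv.toEquiv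
  have hDC : D ≤ CG[D] := fun d hd => Subgroup.mem_centralizer_iff.2 fun h hh => hab h hh d hd
  -- characters over the linear characters
  have hl : ∀ l : D →* ℂˣ, ∃ ψ : Cfsg.IrrCharacter CG[D], ∃ χ : Cfsg.IrrCharacter G,
      ψ ∈ Cfsg.blockOf M (θ : CG[D] → ℂ) ∧
      (∀ d : D, (ψ : CG[D] → ℂ) ⟨d, hDC d.2⟩ = (l d : ℂ) * (ψ : CG[D] → ℂ) 1) ∧
      Cfsg.classInner (fun n : CG[D] => (χ : G → ℂ) n) (ψ : CG[D] → ℂ) ≠ 0 := by
    intro l
    obtain ⟨ψ, hψ, hval⟩ := exists_member_restrict hM (isPBlock_blockOf (M := M) θ)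
      (D.subgroupOf CG[D]) (fun z hz => Subgroup.mem_center_iff.2 fun g =>
        Subtype.ext (Subgroup.mem_centralizer_iff.1 g.2 _ hz).symm)
      hDp.comap_subtype (l.comp (Subgroup.subgroupOfEquivOfLe hDC).toMonoidHom)
    obtain ⟨χ, hχ⟩ := IsChar.exists_constituent (isCharacter_indFun CG[D] (IsIrr.isCharacter ψ.2))
      fun h => IsIrr.one_ne_zero ψ.2 (by
        have h1 := congrFun h 1
        rw [indFun_apply_one, Pi.zero_apply, mul_eq_zero] at h1
        exact h1.resolve_left (Nat.cast_ne_zero.2 Subgroup.index_ne_zero_of_finite))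
    rw [classInner_indFun_left CG[D] _ (isClassFunction_of_isIrr χ.2), ← classInner_conj_symm] at hχ
    exact ⟨ψ, χ, hψ, fun d => hval ⟨⟨d, hDC d.2⟩, Subgroup.mem_subgroupOf.2 d.2⟩,
      fun h => hχ (by rw [h, map_zero])⟩
  choose ψ X hψe hψv hX using hl
  set S := Finset.univ.filter fun χ : Cfsg.IrrCharacter G =>
    Cfsg.classInner (fun n : CG[D] => (χ : G → ℂ) n) (θ : CG[D] → ℂ) ≠ 0 with hS
  have hmemS : ∀ χ, χ ∈ S ↔ χ ∈ B ∧ ∀ d ∈ D, (χ : G → ℂ) d = (χ : G → ℂ) 1 := fun χ => by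
    rw [hS, Finset.mem_filter]
    exact ⟨fun h => (hiff χ).2 h.2, fun h => ⟨Finset.mem_univ _, (hiff χ).1 h⟩⟩
  have hXB : ∀ l, X l ∈ B := fun l => hinB _ _ (hψe l) (hX l)
  have hXS : ∀ l : D →* ℂˣ, l ≠ 1 → X l ∉ S := by
    intro l hl hm
    refine hl (MonoidHom.ext fun d => Units.ext ?_)
    have h1 := constituent_trivial (hX l) (n := ⟨(d : G), hDC d.2⟩) (((hmemS _).1 hm).2 d d.2)
    rw [hψv] at h1
    rw [MonoidHom.one_apply, Units.val_one]
    exact (mul_left_eq_self₀.1 h1).resolve_right (IsIrr.one_ne_zero (ψ l).2)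
  set BF := B.toFinite.toFinset with hBF
  have hBcard : BF.card ≤ 3 := by
    rw [hBF, ← Set.ncard_eq_toFinset_card, ← Nat.card_coe_set_eq]
    exact hk
  obtain ⟨l₀, hl₀⟩ : ∃ l : D →* ℂˣ, l ≠ 1 := by
    by_contra! h
    have : Subsingleton (D →* ℂˣ) := ⟨fun a b => (h a).trans (h b).symm⟩
    have := Finite.card_le_one_iff_subsingleton.2 this
    omega
  have hsubB : ∀ l : D →* ℂˣ, l ≠ 1 → insert (X l) S ⊆ BF := fun l _ χ hχ => by
    rw [hBF, Set.Finite.mem_toFinset]
    rcases Finset.mem_insert.1 hχ with rfl | h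
    exacts [hXB l, ((hmemS χ).1 h).1]
  have hScard : S.card ≤ 2 := by
    have := Finset.card_le_card (hsubB l₀ hl₀)
    rw [Finset.card_insert_of_notMem (hXS l₀ hl₀)] at this
    omega
  rcases Nat.lt_or_ge S.card 2 with hS1 | hS2
  · -- rank one
    obtain ⟨χ₀, hχ₀, hχ₀t⟩ := BlockThms.exists_mem_trivial_on D hM hDp hB
    have hr := blockRank_le_one hM hB D hDp hab (χ₀ := χ₀) fun χ hχ ht =>
      Finset.card_le_one.1 (by omega) χ ((hmemS χ).2 ⟨hχ, ht⟩) χ₀ ((hmemS χ₀).2 ⟨hχ₀, hχ₀t⟩)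
    have hcard := BlockChar.card_defectGroup hM hB hD
    have hd : 0 < Cfsg.blockDefect p B := by
      by_contra h
      rw [show Cfsg.blockDefect p B = 0 by omega, pow_zero] at hcard
      omega
    have hr0 := BlockChar.blockRank_pos hM hB
    have hpow := (BlockChar.pow_defect_eq_card hM hB (by omega) (by omega) hd).1
    omega
  have hS2' : S.card = 2 := by omega
  have huX : ∀ l : D →* ℂˣ, l ≠ 1 → insert (X l) S = BF := fun l hl =>
    Finset.eq_of_subset_of_card_le (hsubB l hl) (by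
      rw [Finset.card_insert_of_notMem (hXS l hl)]; omega)
  have hXeq : ∀ l : D →* ℂˣ, l ≠ 1 → X l = X l₀ := by
    intro l hl
    have h1 : X l ∈ insert (X l₀) S := by
      rw [huX l₀ hl₀, ← huX l hl]
      exact Finset.mem_insert_self _ _
    exact (Finset.mem_insert.1 h1).resolve_right (hXS l hl)
  set T := inertia (θ : CG[D] → ℂ) with hT
  have hCT : CG[D] ≤ T := le_inertia (isClassFunction_of_isIrr θ.2)
  -- transitivity on the linear characters
  have htrans : ∀ l l' : D →* ℂˣ, l ≠ 1 → l' ≠ 1 →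
      ∃ t ∈ T, ∀ d : D, l' d = l (MulAut.conjNormal t d) := by
    intro l l' hl hl'
    have hc := hX l
    have hc' := hX l'
    rw [hXeq l hl] at hc
    rw [hXeq l' hl'] at hc'
    obtain ⟨g, hg⟩ := mem_orbit.1 (constituent_mem_orbit (X l₀).2 (ψ l).2 (ψ l').2 hc hc')
    have hsame : Cfsg.SameBlock M (θ : CG[D] → ℂ) (conjFun g (θ : CG[D] → ℂ)) := by
      refine sameBlock_trans hM (mem_blockOf.1 (hψe l')) ?_
      rw [← hg]
      exact sameBlock_symm (BlockThms.sameBlock_conjFun θ.2 (ψ l).2 (mem_blockOf.1 (hψe l)) g)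
    have hfix : g ∈ T := by
      have := huniq ⟨_, isIrr_conjFun g θ.2⟩ (mem_blockOf.2 hsame) fun x hx => by
        show conjFun g (θ : CG[D] → ℂ) x = conjFun g (θ : CG[D] → ℂ) 1
        rw [conjFun_apply_one, conjFun_apply]
        exact hθt _ (Subgroup.Normal.conj_mem inferInstance _ hx g)
      exact congrArg Subtype.val this
    refine ⟨g, hfix, fun d => Units.ext ?_⟩
    have h1 := congrFun hg ⟨d, hDC d.2⟩
    have h0 := congrFun hg 1
    rw [conjFun_apply_one] at h0
    rw [conjFun_apply, hψv l'] at h1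
    have h3 := hψv l (MulAut.conjNormal g d)
    refine mul_right_cancel₀ (IsIrr.one_ne_zero (ψ l').2) (h1.symm.trans ?_)
    rw [← h0, ← h3]
    exact congrArg _ (Subtype.ext (by simp))
  have hexp : ∀ l : D →* ℂˣ, l ^ p = 1 := by
    intro l
    by_cases hl : l = 1
    · subst hl; exact one_pow (M := D →* ℂˣ) p
    obtain ⟨i, hi⟩ := IsPGroup.iff_card.1 hDp
    have hi0 : i ≠ 0 := fun h => by rw [h, pow_zero] at hi; omega
    obtain ⟨l₁, hl₁⟩ := exists_prime_orderOf_dvd_card' (G := D →* ℂˣ) p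
      (by rw [hcardΛ, hi]; exact dvd_pow_self p hi0)
    have hl₁1 : l₁ ≠ 1 := fun h => hM.1.ne_one (by rw [← hl₁, h, orderOf_one])
    obtain ⟨t, -, ht⟩ := htrans l₁ l hl₁1 hl
    refine MonoidHom.ext fun d => ?_
    rw [MonoidHom.pow_apply, MonoidHom.one_apply, ht d, ← MonoidHom.pow_apply]
    have : l₁ ^ p = 1 := by rw [← hl₁]; exact pow_orderOf_eq_one l₁
    rw [this, MonoidHom.one_apply]
  have : Nontrivial (D →* ℂˣ) := ⟨⟨l₀, 1, hl₀⟩⟩
  -- the quotient
  let H := CG[D].subgroupOf T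
  have : H.Normal := Subgroup.normal_subgroupOf
  let cj : G → MulAut D := MulAut.conjNormal
  let σ₀ : T →* MulAut (D →* ℂˣ) :=
    { toFun := fun t =>
        { toFun := fun l => l.comp (cj (t : G)⁻¹).toMonoidHom
          invFun := fun l => l.comp (cj (t : G)).toMonoidHom
          left_inv := fun l => MonoidHom.ext fun d => by simp [cj, mul_assoc]
          right_inv := fun l => MonoidHom.ext fun d => by simp [cj, mul_assoc]
          map_mul' := fun a b => MonoidHom.ext fun d => rfl }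
      map_one' := MulEquiv.ext fun l => MonoidHom.ext fun d => by simp [cj]
      map_mul' := fun s t => MulEquiv.ext fun l => MonoidHom.ext fun d => by simp [cj, mul_assoc] }
  have hσ₀ : ∀ (t : T) (l : D →* ℂˣ) (d : D), σ₀ t l d = l (cj (t : G)⁻¹ d) := fun _ _ _ => rfl
  have hker : ∀ t : T, σ₀ t = 1 ↔ t ∈ H := by
    intro t
    constructor
    · intro h
      rw [Subgroup.mem_subgroupOf, Subgroup.mem_centralizer_iff]
      intro d hd
      have h0 : cj (t : G)⁻¹ ⟨d, hd⟩ = ⟨d, hd⟩ := by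
        by_contra hne
        obtain ⟨l, hl⟩ := CommGroup.exists_apply_ne_one_of_hasEnoughRootsOfUnity D ℂ
          (a := cj (t : G)⁻¹ ⟨d, hd⟩ * (⟨d, hd⟩ : D)⁻¹) (fun e => hne (mul_inv_eq_one.1 e))
        refine hl ?_
        have := hσ₀ t l ⟨d, hd⟩
        rw [h, MulAut.one_apply] at this
        rw [map_mul, map_inv, mul_inv_eq_one]
        exact this.symm
      have h1 := congrArg Subtype.val h0
      simp only [cj, MulAut.conjNormal_apply, inv_inv] at h1
      calc d * (t : G) = (t : G) * ((t : G)⁻¹ * d * (t : G)) := by group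
        _ = (t : G) * d := by rw [h1]
    · intro h
      refine MulEquiv.ext fun l => MonoidHom.ext fun d => ?_
      rw [hσ₀, MulAut.one_apply]
      refine congrArg _ (Subtype.ext ?_)
      have h1 := Subgroup.mem_centralizer_iff.1 (Subgroup.mem_subgroupOf.1 h) d d.2
      simp only [cj, MulAut.conjNormal_apply, inv_inv]
      rw [mul_assoc, h1, inv_mul_cancel_left]
  let σ : T ⧸ H →* MulAut (D →* ℂˣ) := QuotientGroup.lift H σ₀ fun t ht => (hker t).2 ht
  have hσ : Function.Injective σ := by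
    refine (injective_iff_map_eq_one σ).2 fun q hq => ?_
    obtain ⟨t, rfl⟩ := QuotientGroup.mk_surjective q
    exact (QuotientGroup.eq_one_iff t).2 ((hker t).1 hq)
  have hcardE : Nat.card (T ⧸ H) = CG[D].relIndex T := rfl
  -- sums of degrees
  obtain ⟨m, hm, hsum⟩ := exists_mult_sum_sq (G := G) θ.2
  rw [← hT] at hsum
  have hsumS : ∑ χ ∈ S, m χ ^ 2 = CG[D].relIndex T := by
    rw [← hsum]
    refine Finset.sum_subset (Finset.subset_univ _) fun χ _ hχ => ?_
    have : m χ = 0 := by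
      by_contra h
      exact hχ (Finset.mem_filter.2 ⟨Finset.mem_univ _, by rw [hm]; exact Nat.cast_ne_zero.2 h⟩)
    rw [this]; rfl
  have he0 : CG[D].relIndex T ≠ 0 := Subgroup.index_ne_zero_of_finite
  have hsqe : IsSquare ((Nat.card (D →* ℂˣ) - 1) * CG[D].relIndex T) := by
    have hrel := card_mul_sum_trivial hM hB D hDp
    rw [← Finset.sum_filter, ← Finset.sum_filter] at hrel
    have hf1 : (Finset.univ.filter fun χ : Cfsg.IrrCharacter G =>
        χ ∈ B ∧ ∀ d ∈ D, (χ : G → ℂ) d = (χ : G → ℂ) 1) = S := by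
      ext χ
      simp [hmemS]
    have hf2 : (Finset.univ.filter fun χ : Cfsg.IrrCharacter G => χ ∈ B) = insert (X l₀) S := by
      rw [huX l₀ hl₀]
      ext χ
      simp [hBF]
    rw [hf1, hf2, Finset.sum_insert (hXS l₀ hl₀)] at hrel
    have hdeg : ∑ χ ∈ S, Cfsg.charDegree (χ : G → ℂ) ^ 2 =
        CG[D].relIndex T * (T.index * Cfsg.charDegree (θ : CG[D] → ℂ)) ^ 2 := by
      rw [← hsumS, Finset.sum_mul]
      refine Finset.sum_congr rfl fun χ hχ => ?_
      have hc := (Finset.mem_filter.1 hχ).2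
      have h := degree_eq_of_clifford χ.2 θ.2 hc
      rw [hm, (CharArith.irr_degree_spec χ).1, (CharArith.irr_degree_spec θ).1, ← hT] at h
      have h' : Cfsg.charDegree (χ : G → ℂ) = m χ * T.index * Cfsg.charDegree (θ : CG[D] → ℂ) := by
        exact_mod_cast h
      rw [h']; ring
    refine isSquare_of_mul_sq (c := T.index * Cfsg.charDegree (θ : CG[D] → ℂ))
      (mul_ne_zero Subgroup.index_ne_zero_of_finite (CharArith.irr_degree_spec θ).2.ne')
      ⟨Cfsg.charDegree (X l₀ : G → ℂ), ?_⟩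
    rw [hdeg] at hrel
    rw [hcardΛ, mul_assoc, Nat.sub_mul, one_mul, hrel, Nat.add_sub_cancel, pow_two]
  have hpE : ¬ p ∣ Nat.card (T ⧸ H) := hpe
  have := Fintype.ofFinite T
  have := Fintype.ofFinite H
  let θT : H → ℂ := fun x => (θ : CG[D] → ℂ) ⟨((x : T) : G), Subgroup.mem_subgroupOf.1 x.2⟩
  have hθT : IsIrrCharacter H θT :=
    (isIrrCharacter_comp_equiv (Subgroup.subgroupOfEquivOfLe hCT)).2 θ.2
  have hinv : ∀ t : T, conjFun t θT = θT := fun t => funext fun x =>
    congrFun (t.2 : conjFun (t : G) (θ : CG[D] → ℂ) = θ) ⟨_, Subgroup.mem_subgroupOf.1 x.2⟩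
  obtain ⟨hone, hprime⟩ := two_over H hθT hinv ((card_over_inertia θ.2).trans (by
    rw [Nat.card_eq_fintype_card, Fintype.card_subtype]
    exact hScard))
  have hcard3 := card_le_three_mul (L := D →* ℂˣ) hexp σ hσ hpE ?_ ?_ (by rw [hcardE]; exact hsqe) hone ?_
  · omega
  · intro v w hv hw
    obtain ⟨t, ht, htd⟩ := htrans v w hv hw
    refine ⟨((⟨t, ht⟩⁻¹ : T) : T ⧸ H), MonoidHom.ext fun d => ?_⟩
    show σ₀ ⟨t, ht⟩⁻¹ v d = w d
    rw [hσ₀, htd, Subgroup.coe_inv, inv_inv]
  · obtain ⟨χ₁, χ₂, h12, hS12⟩ := Finset.card_eq_two.1 hS2'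
    exact ⟨m χ₁, m χ₂, by rw [hcardE, ← hsumS, hS12, Finset.sum_pair h12]⟩
  · intro y r hy hr hc
    obtain ⟨e₁, e₂, c, hc0, hre, hidx⟩ := hprime y r hy hr hc
    refine ⟨?_, fun h4 => not_sum_sq h4 e₁ e₂ hre⟩
    obtain ⟨s, hs⟩ := hsqe
    refine isSquare_of_mul_sq hc0 ⟨s * e₁, ?_⟩
    have hidx' : CG[D].relIndex T * e₁ ^ 2 = r * c ^ 2 := hidx
    rw [mul_assoc, ← hidx', ← mul_assoc, hs]
    ring

end Cfsg.Agent.ThreeCharBlock
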