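import Cfsg.Agent.ThreeCharBlock.Arith
import Cfsg.Agent.ThreeCharBlock.Linear
import Cfsg.Agent.LocalStructure.Zsigmondy

/-!
# Transitive linear groups with one class of good elements
-/

set_option autoImplicit false

namespace Cfsg.Agent.ThreeCharBlock

universe u

open Module

variable {V : Type u} [AddCommGroup V] {p : ℕ} [Fact p.Prime] [Module (ZMod p) V] [Finite V]
  {E : Type u} [Group E] [Finite E] (ρ : E →* Module.End (ZMod p) V)

local notation "C[" y "]" => Subgroup.centralizer ({y} : Set E)

/-- The centraliser of a generator of a cyclic centraliser. -/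
theorem centralizer_generator {x y : E} (hy : Subgroup.zpowers y = C[x]) :
    C[y] = C[x] := by
  refine le_antisymm (fun g hg => ?_) (fun g hg => ?_)
  · have hx : x ∈ Subgroup.zpowers y := hy ▸ Subgroup.mem_centralizer_singleton_iff.2 rfl
    obtain ⟨k, rfl⟩ := hx
    rw [Subgroup.mem_centralizer_singleton_iff] at hg ⊢
    exact ((show Commute g y from hg).zpow_right k).eq
  · rw [← hy] at hg
    obtain ⟨k, rfl⟩ := hg
    rw [Subgroup.mem_centralizer_singleton_iff]
    exact ((Commute.refl y).zpow_left k).eq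

theorem zmod_three : ∀ c : ZMod 3, c = 0 ∨ c = 1 ∨ c = -1 := by decide

/-- A transitive linear `p'`-group whose elements with cyclic centralisers are all conjugate,
with the arithmetic conditions of a block with three characters, lives on at most three points. -/
theorem card_le_three [Nontrivial V] (hρ : Function.Injective ρ) (hp' : ¬ p ∣ Nat.card E)
    (htrans : ∀ v w : V, v ≠ 0 → w ≠ 0 → ∃ g, ρ g v = w)
    (hsum : ∃ a b, Nat.card E = a ^ 2 + b ^ 2)
    (hsq : IsSquare ((Nat.card V - 1) * Nat.card E))
    (hone : ∀ y z : E, y ≠ 1 → z ≠ 1 → IsCyclic C[y] → IsCyclic C[z] → IsConj y z)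
    (hprime : ∀ (y : E) (r : ℕ), y ≠ 1 → r.Prime → Nat.card C[y] = r →
      IsSquare ((Nat.card V - 1) * r) ∧ r % 4 ≠ 3) :
    Nat.card V ≤ 3 := by
  classical
  have hp : p.Prime := Fact.out
  set n := finrank (ZMod p) V with hn
  have hq : Nat.card V = p ^ n := by rw [natCard_eq_pow_finrank (K := ZMod p), Nat.card_zmod]
  have hn0 : 0 < n := finrank_pos
  -- the action
  letI : MulAction E V :=
    { smul := fun g v => ρ g v
      one_smul := fun v => by show ρ 1 v = v; rw [map_one]; rfl
      mul_smul := fun g h v => by show ρ (g * h) v = ρ g (ρ h v); rw [map_mul]; rfl }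
  have hsmul : ∀ (g : E) (v : V), g • v = ρ g v := fun _ _ => rfl
  have hinv : ∀ (g : E) (v : V), ρ g v = 0 → v = 0 := fun g v h => by
    have := congrArg (ρ g⁻¹) h
    rwa [map_zero, ← Module.End.mul_apply, ← map_mul, inv_mul_cancel, map_one] at this
  have horb : ∀ v : V, v ≠ 0 →
      (Nat.card V - 1) * Nat.card (MulAction.stabilizer E v) = Nat.card E := by
    intro v hv
    have ho : MulAction.orbit E v = {w : V | w ≠ 0} := Set.ext fun w =>
      ⟨by rintro ⟨g, rfl⟩ h; exact hv (hinv g v h), fun hw => htrans v w hv hw⟩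
    have h1 : Nat.card (MulAction.orbit E v) = Nat.card V - 1 := by
      rw [ho, Nat.card_coe_set_eq, show {w : V | w ≠ 0} = ({0}ᶜ : Set V) from rfl,
        Set.ncard_compl, Set.ncard_singleton]
    rw [← h1, ← Subgroup.index_mul_card (MulAction.stabilizer E v),
      MulAction.index_stabilizer, Nat.card_coe_set_eq]
  obtain ⟨v₀, hv₀⟩ := exists_ne (0 : V)
  have hdvdE : p ^ n - 1 ∣ Nat.card E := hq ▸ Dvd.intro _ (horb v₀ hv₀)
  have hE0 : Nat.card E ≠ 0 := Nat.card_pos.ne'
  obtain ⟨a, b, hab⟩ := hsum
  rw [hq] at hsq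
  rcases Nat.lt_or_ge n 2 with h1 | h2
  · -- dimension one
    have hn1 : finrank (ZMod p) V = 1 := by omega
    choose c hc using fun g : E => (finrank_eq_one_iff_of_nonzero' v₀ hv₀).1 hn1 (ρ g v₀)
    have hcomm : ∀ g h : E, g * h = h * g := by
      intro g h
      refine hρ (LinearMap.ext fun w => ?_)
      obtain ⟨e, rfl⟩ := (finrank_eq_one_iff_of_nonzero' v₀ hv₀).1 hn1 w
      rw [map_mul, map_mul, map_smul, map_smul, Module.End.mul_apply, Module.End.mul_apply,
        ← hc g, ← hc h, map_smul, map_smul, ← hc g, ← hc h]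
      rw [smul_smul, smul_smul, smul_smul, smul_smul, mul_right_comm]
    have hc1 : ∀ g h : E, c (g * h) = c g * c h := fun g h => smul_left_injective (ZMod p) hv₀ (by
      show c (g * h) • v₀ = (c g * c h) • v₀
      rw [hc, map_mul, Module.End.mul_apply, ← hc h, map_smul, ← hc g, smul_smul, mul_comm])
    have : IsCyclic E := isCyclic_of_subgroup_isDomain
      { toFun := c
        map_one' := smul_left_injective (ZMod p) hv₀ (by
          show c 1 • v₀ = (1 : ZMod p) • v₀
          rw [hc, map_one, one_smul]; rfl)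
        map_mul' := hc1 } fun g h hgh => hρ (LinearMap.ext fun w => by
          obtain ⟨e, rfl⟩ := (finrank_eq_one_iff_of_nonzero' v₀ hv₀).1 hn1 w
          rw [map_smul, map_smul, ← hc, ← hc]
          exact congrArg (fun t => e • t • v₀) hgh)
    have htwo : ∀ g h : E, g ≠ 1 → h ≠ 1 → g = h := fun g h hg hh => by
      obtain ⟨k, hk⟩ := isConj_iff.1 (hone g h hg hh inferInstance inferInstance)
      rwa [hcomm k g, mul_inv_cancel_right] at hk
    have hle : Nat.card E ≤ 2 := by
      by_contra h3
      have := Fintype.ofFinite E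
      have hc2 : 1 < (Finset.univ.erase (1 : E)).card := by
        rw [Finset.card_erase_of_mem (Finset.mem_univ _), Finset.card_univ,
          ← Nat.card_eq_fintype_card]
        omega
      obtain ⟨g, hg, h, hh, hgh⟩ := Finset.one_lt_card.1 hc2
      exact hgh (htwo g h (Finset.ne_of_mem_erase hg) (Finset.ne_of_mem_erase hh))
    have := Nat.le_of_dvd Nat.card_pos hdvdE
    omega
  exfalso
  obtain ⟨x₁, y₁, hxy⟩ := sum_sq_of_mul_square hE0 hab hsq
  rcases eq_or_ne p 2 with rfl | hodd
  · exact not_sum_sq_two_pow h2 x₁ y₁ hxy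
  have hp3 : 3 ≤ p := by have := hp.two_le; omega
  -- the centraliser of an element with primitive prime order
  have hmain : ∀ r : ℕ, r.Prime → r ≠ p → r ∣ p ^ n - 1 →
      (∀ k, 0 < k → k < n → ¬ r ∣ p ^ k - 1) → False := by
    intro r hr hrp hrd hprim
    haveI := Fact.mk hr
    obtain ⟨x, hx⟩ := exists_prime_orderOf_dvd_card' r (hrd.trans hdvdE)
    have hx1 : x ≠ 1 := fun e => hr.ne_one (by rw [← hx, e, orderOf_one])
    have hf : ρ x ^ r = 1 := by rw [← map_pow, ← hx, pow_orderOf_eq_one, map_one]
    have hfne : ρ x ≠ 1 := fun e => hx1 (hρ (e.trans ρ.map_one.symm))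
    have hcyc : IsCyclic C[x] := isCyclic_of_commute (irreducible hr hrp hf hfne hprim)
      (ρ.comp C[x].subtype) (hρ.comp C[x].subtype_injective) fun g => by
        show ρ x * ρ (g : E) = ρ (g : E) * ρ x
        rw [← map_mul, ← map_mul, Subgroup.mem_centralizer_singleton_iff.1 g.2]
    obtain ⟨⟨y, hyC⟩, hy⟩ := hcyc.exists_generator
    have hy' : Subgroup.zpowers y = C[x] := by
      refine le_antisymm (Subgroup.zpowers_le.2 hyC) fun g hg => ?_
      obtain ⟨k, hk⟩ := hy ⟨g, hg⟩
      exact ⟨k, congrArg Subtype.val hk⟩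
    have hy1 : y ≠ 1 := fun e => by
      have : x ∈ Subgroup.zpowers y := hy' ▸ Subgroup.mem_centralizer_singleton_iff.2 rfl
      rw [e, Subgroup.zpowers_one_eq_bot, Subgroup.mem_bot] at this
      exact hx1 this
    obtain ⟨k, hk⟩ := isConj_iff.1 (hone y x hy1 hx1 (centralizer_generator hy' ▸ hcyc) hcyc)
    have hcard : Nat.card C[x] = r := by
      rw [← hy', Nat.card_zpowers, ← hx, ← hk]
      exact ((MulAut.conj k).orderOf_eq y).symm
    obtain ⟨hsqr, h43⟩ := hprime x r hx1 hr hcard
    rw [hq] at hsqr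
    -- at most `n` conjugates among the powers
    have hxC : Subgroup.zpowers x = C[x] := by
      refine Subgroup.eq_of_le_of_card_ge
        (Subgroup.zpowers_le.2 (Subgroup.mem_centralizer_singleton_iff.2 rfl)) ?_
      rw [hcard, Nat.card_zpowers, hx]
    have hle : r - 1 ≤ n := by
      have := card_conj_le hr hrp hf hfne hprim (ι := Fin (r - 1))
        (fun i => ρ (x ^ ((i : ℕ) + 1)))
        (fun i j hij => by
          have := pow_injOn_Iio_orderOf (show (i : ℕ) + 1 ∈ Set.Iio (orderOf x) by
            rw [hx, Set.mem_Iio]; have := i.2; omega) (show (j : ℕ) + 1 ∈ Set.Iio (orderOf x) by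
            rw [hx, Set.mem_Iio]; have := j.2; omega) (hρ hij)
          exact Fin.ext (by omega))
        (fun i => by rw [← map_mul, ← map_mul, (Commute.self_pow x _).eq])
        (fun i => by
          have hne : x ^ ((i : ℕ) + 1) ≠ 1 := fun e => by
            have := Nat.le_of_dvd (by omega) (hx ▸ orderOf_dvd_of_pow_eq_one e)
            have := i.2
            omega
          have hgen : Subgroup.zpowers (x ^ ((i : ℕ) + 1)) = C[x] := by
            refine Subgroup.eq_of_le_of_card_ge (Subgroup.zpowers_le.2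
              (hxC ▸ Subgroup.pow_mem _ (Subgroup.mem_zpowers x) _)) ?_
            rw [hcard, Nat.card_zpowers]
            refine (orderOf_eq_prime ?_ hne).ge
            have hxr : x ^ r = 1 := hx ▸ pow_orderOf_eq_one x
            rw [← pow_mul, mul_comm, pow_mul, hxr, one_pow]
          obtain ⟨g, hg⟩ := isConj_iff.1
            (hone x _ hx1 hne hcyc (centralizer_generator hgen ▸ hcyc))
          refine ⟨Units.map ρ (toUnits g), ?_⟩
          rw [← hg, map_mul, map_mul]
          rfl)
      rwa [Fintype.card_fin] at this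
    -- the exponent of `p` modulo `r`
    have hpr : (p : ZMod r) ≠ 0 := fun e => hrp
      ((Nat.prime_dvd_prime_iff_eq hr hp).1 ((ZMod.natCast_eq_zero_iff _ _).1 e))
    have hord : orderOf (p : ZMod r) = n := by
      have key : ∀ k : ℕ, (p : ZMod r) ^ k = 1 ↔ r ∣ p ^ k - 1 := fun k => by
        rw [← ZMod.natCast_eq_zero_iff, Nat.cast_sub (Nat.one_le_pow _ _ hp.pos), sub_eq_zero,
          Nat.cast_pow, Nat.cast_one]
      rw [orderOf_eq_iff hn0]
      exact ⟨(key n).2 hrd, fun k hkn hk e => hprim k hk hkn ((key k).1 e)⟩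
    have hdr : n ∣ r - 1 := by
      rw [← hord]
      exact orderOf_dvd_of_pow_eq_one (ZMod.pow_card_sub_one_eq_one hpr)
    have hrn : r = n + 1 := by
      have := Nat.le_of_dvd (by have := hr.two_le; omega) hdr
      omega
    have hr2 : r % 2 = 1 := hr.eq_two_or_odd.resolve_left (by omega)
    have h4 : 4 ∣ n := by omega
    have hn4 : n = 4 := eq_four_of_square hp hodd hn0.ne' h4 hr hrd hprim hsqr
    -- a central involution of a Sylow subgroup
    haveI := Fact.mk Nat.prime_two
    obtain ⟨S⟩ : Nonempty (Sylow 2 E) := inferInstance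
    have h2E : 2 ∣ Nat.card E := dvd_trans (by
      have := Nat.odd_iff.1 ((hp.odd_of_ne_two hodd).pow (n := n)); omega) hdvdE
    have hSne : Nontrivial (S : Subgroup E) := by
      rw [← Finite.one_lt_card_iff_nontrivial, S.card_eq_multiplicity]
      exact Nat.one_lt_two_pow (Nat.prime_two.factorization_pos_of_dvd hE0 h2E).ne'
    have : Nontrivial (Subgroup.center (S : Subgroup E)) := S.isPGroup'.center_nontrivial
    obtain ⟨⟨z, hzc⟩, hz⟩ := exists_prime_orderOf_dvd_card'
      (G := Subgroup.center (S : Subgroup E)) 2 (by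
        obtain ⟨m, hm⟩ := IsPGroup.iff_card.1 (S.isPGroup'.to_subgroup
          (Subgroup.center (S : Subgroup E)))
        rw [hm]
        refine dvd_pow_self 2 fun e => ?_
        rw [e, pow_zero] at hm
        exact absurd hm (Finite.one_lt_card_iff_nontrivial.2 this).ne')
    rw [Subgroup.orderOf_mk, ← Subgroup.orderOf_coe] at hz
    have hz1 : (z : E) ≠ 1 := fun e => by rw [e, orderOf_one] at hz; omega
    have hzz : ∀ v, ρ (z : E) (ρ (z : E) v) = v := fun v => by
      have h2 : (z : E) ^ 2 = 1 := by
        have := pow_orderOf_eq_one (z : E)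
        rwa [hz] at this
      rw [← Module.End.mul_apply, ← map_mul, ← pow_two, h2, map_one]
      rfl
    set W : Submodule (ZMod p) V := LinearMap.eqLocus (ρ (z : E)) 1 with hW
    rcases eq_or_ne W ⊥ with hW0 | hW0
    · -- minus one commutes with `x`
      have hneg : ρ (z : E) = -1 := LinearMap.ext fun v => by
        have : v + ρ (z : E) v ∈ W := by
          rw [hW, LinearMap.mem_eqLocus, map_add, hzz, Module.End.one_apply, add_comm]
        rw [hW0, Submodule.mem_bot] at this
        exact eq_neg_of_add_eq_zero_right this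
      have hzC : (z : E) ∈ C[x] := by
        rw [Subgroup.mem_centralizer_singleton_iff]
        refine hρ ?_
        rw [map_mul, map_mul, hneg, neg_one_mul, mul_neg_one]
      have := (Subgroup.orderOf_dvd_natCard _ hzC)
      rw [hz, hcard] at this
      omega
    · -- orbits of the Sylow subgroup on the fixed space
      set v2 := (p ^ n - 1).factorization 2
      let T := {w : W // w ≠ 0}
      letI : MulAction (S : Subgroup E) T :=
        { smul := fun s w => ⟨⟨(s : E) • (w.1 : V), by
            have hc := (Subgroup.mem_center_iff.1 hzc) s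
            have hc' : (s : E) * (z : E) = (z : E) * (s : E) := congrArg Subtype.val hc
            have hw : ρ (z : E) (w.1 : V) = (w.1 : V) := w.1.2
            show ρ (z : E) (ρ (s : E) (w.1 : V)) = ρ (s : E) (w.1 : V)
            rw [← Module.End.mul_apply, ← map_mul, ← hc', map_mul, Module.End.mul_apply, hw]⟩,
            fun e => w.2 (Subtype.ext (hinv (s : E) _ (congrArg Subtype.val e)))⟩
          one_smul := fun w => Subtype.ext (Subtype.ext (one_smul E (w.1 : V)))
          mul_smul := fun s t w => Subtype.ext (Subtype.ext (mul_smul (s : E) (t : E) (w.1 : V))) }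
      have hTdvd : 2 ^ v2 ∣ Nat.card T := by
        have := Fintype.ofFinite (MulAction.orbitRel.Quotient (S : Subgroup E) T)
        rw [Nat.card_congr (MulAction.selfEquivSigmaOrbits (S : Subgroup E) T), Nat.card_sigma]
        refine Finset.dvd_sum fun o _ => ?_
        set w := o.out
        have hw0 : (w.1 : V) ≠ 0 := fun e => w.2 (Subtype.ext e)
        have hcst := horb _ hw0
        rw [hq] at hcst
        have hst : (MulAction.stabilizer (S : Subgroup E) w).map (S : Subgroup E).subtype ≤
            MulAction.stabilizer E (w.1 : V) := by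
          rintro _ ⟨s, hs, rfl⟩
          exact congrArg (fun t : T => (t.1 : V)) hs
        have hd := Subgroup.card_dvd_of_le hst
        rw [Subgroup.card_map_of_injective (S : Subgroup E).subtype_injective] at hd
        have hos := Subgroup.index_mul_card (MulAction.stabilizer (S : Subgroup E) w)
        rw [MulAction.index_stabilizer, ← Nat.card_coe_set_eq, S.card_eq_multiplicity] at hos
        obtain ⟨i, hi, hoi⟩ := (Nat.dvd_prime_pow Nat.prime_two).1 (Dvd.intro _ hos)
        rw [hoi]
        refine pow_dvd_pow 2 ?_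
        have hst0 : Nat.card (MulAction.stabilizer E (w.1 : V)) ≠ 0 := Nat.card_pos.ne'
        have hs0 : Nat.card (MulAction.stabilizer (S : Subgroup E) w) ≠ 0 := Nat.card_pos.ne'
        have e1 := congrArg (fun t : ℕ => t.factorization 2) hcst
        have e2 := congrArg (fun t : ℕ => t.factorization 2) hos
        have hpn0 : p ^ n - 1 ≠ 0 := fun e => hE0 (by rw [← hcst, e, zero_mul])
        simp only [Nat.factorization_mul hpn0 hst0, Finsupp.add_apply] at e1
        rw [hoi] at e2
        simp only [Nat.factorization_mul (pow_ne_zero i two_ne_zero) hs0, Finsupp.add_apply,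
          Nat.prime_two.factorization_pow, Finsupp.single_eq_same] at e2
        have e3 := (Nat.factorization_le_iff_dvd hs0 hst0).2 hd 2
        omega
      have hTcard : Nat.card T = p ^ finrank (ZMod p) W - 1 := by
        rw [show Nat.card T = ({0}ᶜ : Set W).ncard from Nat.card_coe_set_eq _, Set.ncard_compl,
          Set.ncard_singleton, natCard_eq_pow_finrank (K := ZMod p), Nat.card_zmod]
      rw [hTcard] at hTdvd
      have hWlt : finrank (ZMod p) W < n := by
        refine lt_of_le_of_ne (Submodule.finrank_le W) fun e => hz1 (hρ ?_)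
        rw [map_one]
        refine LinearMap.ext fun v => ?_
        exact (Submodule.eq_top_of_finrank_eq e ▸ Submodule.mem_top : v ∈ W)
      have hWpos : 0 < finrank (ZMod p) W :=
        Nat.pos_of_ne_zero fun e => hW0 (Submodule.finrank_eq_zero.1 e)
      -- two-adic values
      have hp1 : 1 ≤ p := hp.one_le
      have hsplit : p ^ 4 - 1 = (p ^ 2 - 1) * (p ^ 2 + 1) := by
        rw [mul_comm, ← Nat.sq_sub_sq, ← pow_mul, one_pow]
      have hd2 : 2 ^ (v2) ∣ p ^ 2 - 1 := by
        have hj : finrank (ZMod p) W ∣ 2 ∨ finrank (ZMod p) W = 3 := by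
          rw [hn4] at hWlt
          interval_cases finrank (ZMod p) W <;> simp
        rcases hj with hj | hj
        · exact hTdvd.trans (Nat.pow_sub_one_dvd_pow_sub_one _ hj)
        · rw [hj] at hTdvd
          have hid : p ^ 3 - 1 = (p - 1) * (p ^ 2 + p + 1) := by
            obtain ⟨m, rfl⟩ : ∃ m, p = m + 1 := ⟨p - 1, by omega⟩
            rw [Nat.sub_eq_iff_eq_add (Nat.one_le_pow _ _ (by omega)), Nat.add_sub_cancel]
            ring
          rw [hid] at hTdvd
          have hoddf : (p ^ 2 + p + 1) % 2 = 1 := by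
            have := Nat.odd_iff.1 (hp.odd_of_ne_two hodd)
            simp [Nat.add_mod, Nat.pow_mod, this]
          refine ((Nat.Coprime.pow_left _ ?_).dvd_of_dvd_mul_right hTdvd).trans
            (by simpa using Nat.pow_sub_one_dvd_pow_sub_one p (one_dvd 2))
          exact Nat.coprime_two_left.2 (Nat.odd_iff.2 hoddf)
      have h20 : p ^ 2 - 1 ≠ 0 := by
        have : 3 ^ 2 ≤ p ^ 2 := Nat.pow_le_pow_left hp3 2
        omega
      have hle2 := (Nat.prime_two.pow_dvd_iff_le_factorization h20).1 hd2
      have heven : 2 ∣ p ^ 2 + 1 := by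
        have := Nat.odd_iff.1 ((hp.odd_of_ne_two hodd).pow (n := 2))
        omega
      have hpos := Nat.prime_two.factorization_pos_of_dvd (by omega : p ^ 2 + 1 ≠ 0) heven
      have hv2 : v2 = (p ^ 2 - 1).factorization 2 + (p ^ 2 + 1).factorization 2 := by
        rw [show v2 = (p ^ 4 - 1).factorization 2 by rw [← hn4], hsplit,
          Nat.factorization_mul h20 (Nat.succ_ne_zero _), Finsupp.add_apply]
      omega
  rcases Nat.lt_or_ge n 3 with hn2 | hn3
  swap
  · obtain ⟨r, hr, hrd, hprim⟩ := LocalStructure.zsigmondy (show 1 < p by omega) (show 1 < n by omega)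
      (fun h => hodd h.1) (fun h => by omega)
    refine hmain r hr (fun e => ?_) hrd hprim
    subst e
    have h1 : r ∣ r ^ n := dvd_pow_self r hn0.ne'
    have := Nat.dvd_sub h1 hrd
    rw [Nat.sub_sub_self (Nat.one_le_pow _ _ hp.pos)] at this
    exact hr.ne_one (Nat.dvd_one.1 this)
  have hn2' : n = 2 := by omega
  by_cases hex : ∃ r, r.Prime ∧ r ≠ 2 ∧ r ∣ p + 1
  · obtain ⟨r, hr, hr2, hrd⟩ := hex
    refine hmain r hr (fun e => ?_) ?_ fun k hk hkn h => ?_
    · subst e
      exact hr.ne_one (Nat.dvd_one.1 ((Nat.dvd_add_right dvd_rfl).1 hrd))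
    · rw [hn2', show p ^ 2 - 1 = (p + 1) * (p - 1) by rw [← Nat.sq_sub_sq, one_pow]]
      exact hrd.mul_right _
    · obtain rfl : k = 1 := by omega
      rw [pow_one] at h
      have := Nat.dvd_sub hrd h
      rw [show p + 1 - (p - 1) = 2 by omega] at this
      exact hr2 ((Nat.prime_dvd_prime_iff_eq hr Nat.prime_two).1 this)
  -- Mersenne primes
  push Not at hex
  obtain ⟨s, hs⟩ : ∃ s, p + 1 = 2 ^ s := ⟨_, Nat.eq_prime_pow_of_unique_prime_dvd (by omega)
    fun {d} hd hdd => by_contra fun h2 => hex d hd h2 hdd⟩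
  have hs2 : 2 ≤ s := by
    by_contra h
    interval_cases s <;> simp at hs <;> omega
  rcases eq_or_lt_of_le hs2 with hs3 | hs3
  swap
  · -- the odd part is three modulo four
    obtain ⟨t, rfl⟩ := Nat.exists_eq_add_of_le (show 3 ≤ s by omega)
    obtain ⟨O, hO, hO4⟩ : ∃ O, p ^ n - 1 = 2 ^ (t + 4) * O ∧ O % 4 = 3 := by
      refine ⟨2 ^ (t + 2) - 1, ?_, by
        have : 1 ≤ 2 ^ t := Nat.one_le_two_pow
        rw [pow_add]; omega⟩
      rw [hn2', show p ^ 2 - 1 = (p + 1) * (p - 1) by rw [← Nat.sq_sub_sq, one_pow], hs,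
        show p - 1 = 2 ^ (3 + t) - 2 by omega]
      rw [Nat.mul_sub, Nat.mul_sub, mul_one, ← pow_add, ← pow_add, ← pow_succ]
      congr 2 <;> ring
    obtain ⟨x₂, y₂, h'⟩ : ∃ x y, O = x ^ 2 + y ^ 2 := by
      refine Nat.eq_sq_add_sq_iff.2 fun ℓ hℓ h3 => ?_
      obtain ⟨hlp, -, -⟩ := Nat.mem_primeFactors.1 hℓ
      have he := even_factorization hxy hlp h3
      rw [hO, Nat.factorization_mul (pow_ne_zero _ two_ne_zero) (by omega), Finsupp.add_apply,
        Nat.prime_two.factorization_pow, Finsupp.single_eq_of_ne (by omega), zero_add] at he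
      rwa [← Nat.factorization_def O hlp]
    exact not_sum_sq hO4 x₂ y₂ h'
  -- three
  obtain rfl : p = 3 := by rw [← hs3] at hs; norm_num at hs; omega
  rw [hn2'] at hdvdE hsq
  norm_num at hdvdE hsq
  have h48 : Nat.card E ∣ 48 := by
    have hφ : Function.Injective (ρ.toHomUnits) := fun g h e =>
      hρ (congrArg (fun u : (Module.End (ZMod 3) V)ˣ => (u : Module.End (ZMod 3) V)) e)
    have hd := Subgroup.card_dvd_of_injective ρ.toHomUnits hφ
    have hb : Module.finrank (ZMod 3) V = 2 := hn2'
    let e := (Module.finBasisOfFinrankEq (ZMod 3) V hb)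
    rw [Nat.card_congr (Units.mapEquiv (algEquivMatrix e).toMulEquiv).toEquiv] at hd
    have hcount := Matrix.card_GL_field (𝔽 := ZMod 3) 2
    rw [ZMod.card] at hcount
    simp only [Fin.prod_univ_two, Fin.val_zero, Fin.val_one] at hcount
    exact hd.trans (dvd_of_eq (hcount.trans (by norm_num)))
  have hE8 : Nat.card E = 8 := by
    have hlt := Nat.le_of_dvd (by norm_num) h48
    obtain ⟨k, hk⟩ := hdvdE
    have hk6 : k ≤ 6 := by omega
    interval_cases k
    · omega
    · exact hk
    · exfalso
      obtain ⟨s', hs'⟩ := hsq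
      rw [hk] at hs'
      have : s' < 12 := by nlinarith
      interval_cases s' <;> simp at hs'
    · exact absurd ⟨8, by rw [hk]⟩ hp'
    · rw [hk] at h48; norm_num at h48
    · rw [hk] at h48; norm_num at h48
    · exact absurd ⟨16, by rw [hk]⟩ hp'
  have hfree : ∀ (g : E) (v : V), v ≠ 0 → ρ g v = v → g = 1 := by
    intro g v hv hg
    have := horb v hv
    rw [hq, hn2', hE8] at this
    have hst : MulAction.stabilizer E v = ⊥ := Subgroup.eq_bot_of_card_eq _ (by norm_num at this; exact this)
    exact Subgroup.mem_bot.1 (hst ▸ (show g ∈ MulAction.stabilizer E v from hg))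
  -- the unique involution
  obtain ⟨z, hz⟩ := exists_prime_orderOf_dvd_card' (G := E) 2 (hp := ⟨Nat.prime_two⟩)
    (hE8 ▸ by norm_num)
  have hz1 : z ≠ 1 := fun e => by rw [e, orderOf_one] at hz; omega
  have hzneg : ρ z = -1 := LinearMap.ext fun v => by
    by_contra hv
    refine hz1 (hfree z (v + ρ z v) (fun e => hv (eq_neg_of_add_eq_zero_right e)) ?_)
    rw [map_add, ← Module.End.mul_apply, ← map_mul, ← pow_two, ← hz, pow_orderOf_eq_one, map_one,
      Module.End.one_apply, add_comm]
  have hcycy : ∀ y : E, y ≠ 1 → y ≠ z → IsCyclic C[y] := by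
    intro y hy hyz
    refine isCyclic_of_commute (f := ρ y) (fun W hW => ?_) (ρ.comp C[y].subtype)
      (hρ.comp C[y].subtype_injective) fun g => by
        show ρ y * ρ (g : E) = ρ (g : E) * ρ y
        rw [← map_mul, ← map_mul, Subgroup.mem_centralizer_singleton_iff.1 g.2]
    by_contra! hcon
    obtain ⟨h0, h1⟩ := hcon
    have hd1 : finrank (ZMod 3) W = 1 := by
      have := Submodule.finrank_lt h1
      have : finrank (ZMod 3) W ≠ 0 := fun e => h0 (Submodule.finrank_eq_zero.1 e)
      omega
    obtain ⟨⟨w, hw⟩, hw0, hspan⟩ := finrank_eq_one_iff'.1 hd1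
    obtain ⟨c, hc⟩ := hspan ⟨ρ y w, hW w hw⟩
    have hc' : c • w = ρ y w := congrArg Subtype.val hc
    have hw0' : w ≠ 0 := fun e => hw0 (Subtype.ext e)
    rcases zmod_three c with rfl | rfl | rfl
    · rw [zero_smul] at hc'; exact hw0' (hinv y w hc'.symm)
    · rw [one_smul] at hc'; exact hy (hfree y w hw0' hc'.symm)
    · refine hyz ?_
      have : z * y = 1 := hfree (z * y) w hw0' (by
        rw [map_mul, Module.End.mul_apply, ← hc', hzneg]
        simp)
      rw [eq_inv_of_mul_eq_one_right this, inv_eq_iff_mul_eq_one, ← pow_two, ← hz,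
        pow_orderOf_eq_one]
  obtain ⟨y, hy1, hyz⟩ : ∃ y : E, y ≠ 1 ∧ y ≠ z := by
    have := Fintype.ofFinite E
    obtain ⟨y, -, hy⟩ := Finset.exists_mem_notMem_of_card_lt_card (s := ({1, z} : Finset E))
      (t := Finset.univ) (lt_of_le_of_lt Finset.card_le_two (by
        rw [Finset.card_univ, ← Nat.card_eq_fintype_card, hE8]; norm_num))
    simp only [Finset.mem_insert, Finset.mem_singleton, not_or] at hy
    exact ⟨y, hy⟩
  have hclass : MulAction.orbit (ConjAct E) y = {1, z}ᶜ := by
    ext g
    rw [ConjAct.mem_orbit_conjAct]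
    refine ⟨fun hg => ?_, fun hg => ?_⟩
    · rintro (rfl | rfl)
      · exact hy1 (isConj_one_right.1 hg)
      · obtain ⟨k, hk⟩ := isConj_iff.1 hg
        refine hyz (hρ ?_)
        rw [← hk, map_mul, map_mul, hzneg, mul_neg_one, neg_mul, ← map_mul, mul_inv_cancel, map_one]
    · simp only [Set.mem_compl_iff, Set.mem_insert_iff, Set.mem_singleton_iff, not_or] at hg
      exact (hone y g hy1 hg.1 (hcycy y hy1 hyz) (hcycy g hg.1 hg.2)).symm
  have hdvd := Subgroup.index_dvd_card (MulAction.stabilizer (ConjAct E) y)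
  rw [MulAction.index_stabilizer, hclass, Set.ncard_compl, Set.ncard_pair (Ne.symm hz1),
    show Nat.card (ConjAct E) = Nat.card E from rfl, hE8] at hdvd
  norm_num at hdvd

end Cfsg.Agent.ThreeCharBlock
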